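import Groth.Agent.Dix.IdealModCartier
import Groth.Agent.Divis.EffCartier
import Groth.Agent.Pic13.H11.Cls

/-!
# Classes of divisors in the group of units of the monoid of classes of modules

* `dcl hD`: the class of `O(-D)` for an effective Cartier divisor `D`; products and powers of divisors.
* `S k La m u = ∑_{a+b=m} h^b(La a ⊗ u)`.
-/

set_option autoImplicit false
universe u
open CategoryTheory CategoryTheory.Limits AlgebraicGeometry

namespace K911.DivCls

open Groth.Agent Groth.Agent.Fga.PicMon Groth.Agent.Pic13.H11.Cls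

variable {X : Scheme.{u}}

theorem isInverseOf_iff {L M : X.Modules} : ClSub.IsInverseOf L M ↔ mc L * mc M = 1 := by
  rw [← mc_tensor, ← mc_one, mc_eq_iff]; rfl

theorem mc_idealMod_mul {D E : X.IdealSheafData} (hD : BlowUp.IsEffCartierIdeal D)
    (hE : BlowUp.IsEffCartierIdeal E) :
    mc (ClSub.idealMod (D * E)) = mc (ClSub.idealMod D) * mc (ClSub.idealMod E) := by
  rw [← mc_tensor, mc_eq_iff]
  exact (Dix.IdealModCartier.idealMod_mul hD hE).map Iso.symm

theorem mc_idealMod_one : mc (ClSub.idealMod (1 : X.IdealSheafData)) = 1 := by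
  obtain ⟨e⟩ := Dix.IdealModCartier.idealMod_principal (X := X) (D := 1) (a := 1) (by
    intro W hW
    rw [map_one]
    refine ⟨one_mem _, ?_⟩
    rw [Ideal.span_singleton_one]
    rfl)
  rw [← mc_one]
  exact mc_eq e.symm

theorem isEff_one : BlowUp.IsEffCartierIdeal (1 : X.IdealSheafData) := Divis.EffCartier.isEff_top

theorem isEff_prod {ι : Type*} (s : Finset ι) (D : ι → X.IdealSheafData)
    (hD : ∀ i, BlowUp.IsEffCartierIdeal (D i)) : BlowUp.IsEffCartierIdeal (∏ i ∈ s, D i) := by
  classical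
  induction s using Finset.induction_on with
  | empty => rw [Finset.prod_empty]; exact isEff_one
  | insert a s has ih => rw [Finset.prod_insert has]; exact Divis.EffCartier.isEff_mul (hD a) ih

theorem isEff_prod_pow {ι : Type*} (s : Finset ι) (D : ι → X.IdealSheafData)
    (hD : ∀ i, BlowUp.IsEffCartierIdeal (D i)) (α : ι → ℕ) :
    BlowUp.IsEffCartierIdeal (∏ i ∈ s, D i ^ α i) :=
  isEff_prod s _ fun i => Divis.EffCartier.isEff_pow (hD i) (α i)

theorem mc_idealMod_pow {D : X.IdealSheafData} (hD : BlowUp.IsEffCartierIdeal D) (n : ℕ) :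
    mc (ClSub.idealMod (D ^ n)) = mc (ClSub.idealMod D) ^ n := by
  induction n with
  | zero => rw [pow_zero, pow_zero, mc_idealMod_one]
  | succ n ih => rw [pow_succ, pow_succ, mc_idealMod_mul (Divis.EffCartier.isEff_pow hD n) hD, ih]

theorem mc_idealMod_prod {ι : Type*} (s : Finset ι) (D : ι → X.IdealSheafData)
    (hD : ∀ i, BlowUp.IsEffCartierIdeal (D i)) :
    mc (ClSub.idealMod (∏ i ∈ s, D i)) = ∏ i ∈ s, mc (ClSub.idealMod (D i)) := by
  classical
  induction s using Finset.induction_on with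
  | empty => rw [Finset.prod_empty, Finset.prod_empty, mc_idealMod_one]
  | insert a s has ih =>
    rw [Finset.prod_insert has, Finset.prod_insert has, mc_idealMod_mul (hD a) (isEff_prod s D hD), ih]

/-- the class of `O(-D)` -/
noncomputable def dcl {D : X.IdealSheafData} (hD : BlowUp.IsEffCartierIdeal D) : (MC X)ˣ :=
  unit (Dix.IdealModCartier.isInvertible_idealMod hD)

@[simp] theorem dcl_val {D : X.IdealSheafData} (hD : BlowUp.IsEffCartierIdeal D) :
    ((dcl hD : (MC X)ˣ) : MC X) = mc (ClSub.idealMod D) := unit_val _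

theorem mc_prod {ι : Type*} (s : Finset ι) {D : ι → X.IdealSheafData}
    (hD : ∀ i, BlowUp.IsEffCartierIdeal (D i)) :
    mc (ClSub.idealMod (∏ i ∈ s, D i)) = ((∏ i ∈ s, dcl (hD i) : (MC X)ˣ) : MC X) := by
  rw [mc_idealMod_prod s D hD, Units.coe_prod]
  simp only [dcl_val]

theorem mc_prod_pow {ι : Type*} (s : Finset ι) {D : ι → X.IdealSheafData}
    (hD : ∀ i, BlowUp.IsEffCartierIdeal (D i)) (α : ι → ℕ) :
    mc (ClSub.idealMod (∏ i ∈ s, D i ^ α i)) = ((∏ i ∈ s, dcl (hD i) ^ α i : (MC X)ˣ) : MC X) := by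
  rw [mc_idealMod_prod s _ fun i => Divis.EffCartier.isEff_pow (hD i) (α i), Units.coe_prod]
  refine Finset.prod_congr rfl fun i _ => ?_
  rw [mc_idealMod_pow (hD i), Units.val_pow_eq_pow_val, dcl_val]

/-- the unit of an inverse -/
theorem unit_inv {L M : X.Modules} (hL : PicF.IsInvertible L) (h : ClSub.IsInverseOf M L) :
    mc M = (((unit hL)⁻¹ : (MC X)ˣ) : MC X) := by
  refine (Units.inv_eq_of_mul_eq_one_left ?_).symm
  rw [unit_val]
  exact isInverseOf_iff.1 h

section
variable (k : Type u) [Field k] [X.Over (Spec (CommRingCat.of k))]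

/-- `∑_{a+b=m} h^b(La a ⊗ u)` -/
noncomputable def S (La : ℕ → X.Modules) (m : ℕ) (u : (MC X)ˣ) : ℕ :=
  ∑ a ∈ Finset.range (m + 1), h k (m - a) (u • mc (La a))

theorem h_smul_mc (M F : X.Modules) {u : (MC X)ˣ} (hu : mc M = u) (i : ℕ) :
    h k i (u • mc F) = Module.finrank k (Coh.HH X (CohB1.tensorMod F M) i) := by
  rw [smul_def, ← hu, mul_comm, ← mc_tensor, h_mc]

theorem S_eq (La : ℕ → X.Modules) (m : ℕ) (M : X.Modules) {u : (MC X)ˣ} (hu : mc M = u) :
    S k La m u = ∑ a ∈ Finset.range (m + 1),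
      Module.finrank k (Coh.HH X (CohB1.tensorMod (La a) M) (m - a)) :=
  Finset.sum_congr rfl fun a _ => h_smul_mc k M (La a) hu (m - a)

theorem le_S (La : ℕ → X.Modules) (a b : ℕ) (u : (MC X)ˣ) :
    h k b (u • mc (La a)) ≤ S k La (a + b) u := by
  have h1 := Finset.single_le_sum (f := fun i => h k (a + b - i) (u • mc (La i)))
    (s := Finset.range (a + b + 1)) (fun i _ => Nat.zero_le _) (Finset.mem_range.2 (by omega : a < a + b + 1))
  simp only [Nat.add_sub_cancel_left] at h1
  exact h1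

theorem S_eq_zero (La : ℕ → X.Modules) (m : ℕ) (u : (MC X)ˣ)
    (hv : ∀ a b, a + b = m → V b (u • mc (La a))) : S k La m u = 0 :=
  Finset.sum_eq_zero fun a ha => h_eq_zero k (hv a (m - a) (by
    have := Finset.mem_range.1 ha; omega))

theorem V_of_h [IsProper (X ↘ Spec (CommRingCat.of k))] {c : MC X} (hc : Co c) (i : ℕ) (h0 : h k i c = 0) :
    V i c := by
  induction c using MC.ind with | h L => ?_
  have := Fga.HodgeSec.finite_HH' k hc i
  exact Module.finrank_zero_iff.1 h0

/-- The consequence of an inequality `S u ≤ S u'`. -/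
theorem V_of_S_le [IsProper (X ↘ Spec (CommRingCat.of k))] (La : ℕ → X.Modules) {u u' : (MC X)ˣ} (a b : ℕ)
    (hc : Coh.IsCoh (La a)) (hle : S k La (a + b) u ≤ S k La (a + b) u')
    (hv : ∀ a' b', a' + b' = a + b → V b' (u' • mc (La a'))) : V b (u • mc (La a)) := by
  have hc' : Co (mc (La a)) := hc
  refine V_of_h k (hc'.smul u) b (Nat.le_zero.1 ?_)
  have h1 := le_S k La a b u
  rw [S_eq_zero k La (a + b) u' hv] at hle
  exact h1.trans hle

end

end K911.DivCls
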