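import Groth.Agent.Dcoh.MonClosed
import Groth.Agent.Fga.PicMon
import Groth.Agent.CohqB.HomSheafCoh
import Groth.Agent.Vanish.K911.DivCls
import Groth.Agent.Sga67.LocBasisOps

/-!
# Serre duality and twists by invertible modules

`SerreD k X n ω`: for every finite locally free `F` and `p ≤ n` the dual of `H^p(X, F)` is isomorphic to
`H^{n-p}(X, Hom(F, ω))`. With `P' ⊗ P ≅ O_X` one has `Hom(F ⊗ P, ω) ≅ P' ⊗ Hom(F, ω)`.
-/

set_option autoImplicit false
universe v u w
open CategoryTheory CategoryTheory.Limits AlgebraicGeometry MonoidalCategory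

namespace K911.Dual

open Groth.Agent Groth.Agent.Fga.PicMon Groth.Agent.Pic13.H11.Cls

section Abstract

variable {C : Type u} [Category.{v} C] [MonoidalCategory C] [BraidedCategory C]

/-- Tensoring with an invertible object is an equivalence. -/
noncomputable def tensorEquiv (L J : C) (e : L ⊗ J ≅ 𝟙_ C) : C ≌ C :=
  CategoryTheory.Equivalence.mk (tensorLeft J) (tensorLeft L)
    (NatIso.ofComponents (fun M => (λ_ M).symm ≪≫ whiskerRightIso e.symm M ≪≫ α_ L J M) (by
      intro M N f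
      change f ≫ (λ_ N).inv ≫ e.inv ▷ N ≫ (α_ L J N).hom =
        ((λ_ M).inv ≫ e.inv ▷ M ≫ (α_ L J M).hom) ≫ L ◁ (J ◁ f)
      rw [leftUnitor_inv_naturality_assoc, whisker_exchange_assoc, associator_naturality_right,
        Category.assoc, Category.assoc]))
    (NatIso.ofComponents (fun M => (α_ J L M).symm ≪≫ whiskerRightIso (β_ J L ≪≫ e) M ≪≫ λ_ M) (by
      intro M N f
      change J ◁ (L ◁ f) ≫ ((α_ J L N).inv ≫ (β_ J L ≪≫ e).hom ▷ N ≫ (λ_ N).hom) =
        ((α_ J L M).inv ≫ (β_ J L ≪≫ e).hom ▷ M ≫ (λ_ M).hom) ≫ f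
      rw [Category.assoc, Category.assoc, ← leftUnitor_naturality, ← whisker_exchange_assoc,
        associator_inv_naturality_right_assoc]))

/-- `Hom(F ⊗ P, -) ≅ P⁻¹ ⊗ Hom(F, -)` -/
noncomputable def homTensorIso (F P P' : C) (e : P' ⊗ P ≅ 𝟙_ C) {R R' : C ⥤ C}
    (a : tensorLeft (F ⊗ P) ⊣ R) (b : tensorLeft F ⊣ R') : R ≅ R' ⋙ tensorLeft P' :=
  Adjunction.rightAdjointUniq a
    (((tensorEquiv P' P e).toAdjunction.comp b).ofNatIsoLeft (tensorLeftTensor F P).symm)

end Abstract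

open scoped Groth.Agent.Dcoh.MonCat

variable {X : Scheme.{u}}

/-- `Hom(F ⊗ P, G) ≅ P⁻¹ ⊗ Hom(F, G)` -/
theorem nonempty_homTensorIso (F P P' G : X.Modules) (e : ClSub.IsInverseOf P' P) :
    Nonempty ((DCoh.sheafHom (CohB1.tensorMod F P)).obj G ≅
      CohB1.tensorMod P' ((DCoh.sheafHom F).obj G)) := by
  obtain ⟨e⟩ := e
  exact ⟨(homTensorIso (C := X.Modules) F P P' e (DCoh.sheafHomAdj (F ⊗ P))
    (DCoh.sheafHomAdj F)).app G⟩

/-- Serre duality for finite locally free modules, as an existence statement. -/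
def SerreD (k : Type u) [Field k] (X : Scheme.{u}) [X.Over (Spec (CommRingCat.of k))] (n : ℕ) (ω : X.Modules) :
    Prop :=
  ∀ F : X.Modules, FlatMod.IsFinLocFree F → ∀ p : ℕ, p ≤ n →
    Nonempty (Module.Dual k (Coh.HH X F p) ≃ₗ[k] Coh.HH X ((DCoh.sheafHom F).obj ω) (n - p))

theorem isCoh_sheafHom [IsLocallyNoetherian X] {F G : X.Modules} (hF : Coh.IsCoh F) (hG : Coh.IsCoh G) :
    Coh.IsCoh ((DCoh.sheafHom F).obj G) :=
  Sga67.CohBasic.isCoh_of_iso ((Dcoh.MonClosed.sheafHomIso F).app G).symm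
    (CohqB.HomSheaf.isCoh_homSheaf hF hG)

theorem isFinLocFree_of_isInvertible {L : X.Modules} (hL : PicF.IsInvertible L) : FlatMod.IsFinLocFree L := by
  intro x
  obtain ⟨U, hx, ⟨e⟩⟩ := hL x
  exact ⟨U, 1, hx, ⟨e ≪≫ (coproductUniqueIso (fun _ : Fin 1 => Coh.structureModule (U : Scheme.{u}))).symm⟩⟩

theorem subsingleton_of_dual {k V W : Type*} [Field k] [AddCommGroup V] [Module k V] [AddCommGroup W]
    [Module k W] (e : Module.Dual k V ≃ₗ[k] W) [Subsingleton W] : Subsingleton V := by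
  have h1 : Subsingleton (Module.Dual k V) := e.injective.subsingleton
  refine subsingleton_of_forall_eq 0 fun v => ?_
  rw [← Module.forall_dual_apply_eq_zero_iff k v]
  intro φ
  rw [Subsingleton.elim φ 0, LinearMap.zero_apply]

variable (k : Type u) [Field k] [X.Over (Spec (CommRingCat.of k))] {n : ℕ} {ω : X.Modules}

/-- Vanishing by duality. -/
theorem V_dual (sd : SerreD k X n ω) {F : X.Modules} (hF : FlatMod.IsFinLocFree F) (u : (MC X)ˣ) {b : ℕ}
    (hb : b ≤ n) (hv : V (n - b) (u⁻¹ • mc ((DCoh.sheafHom F).obj ω))) : V b (u • mc F) := by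
  obtain ⟨P, hP, hu⟩ := exists_invertible u
  obtain ⟨P', hP', hu'⟩ := exists_invertible u⁻¹
  have hinv : ClSub.IsInverseOf P' P := by
    rw [DivCls.isInverseOf_iff, hu, hu', Units.inv_mul]
  obtain ⟨e⟩ := nonempty_homTensorIso F P P' ω hinv
  have hFP : FlatMod.IsFinLocFree (CohB1.tensorMod F P) :=
    Sga67.LocBasis.isFinLocFree_tensorMod hF (isFinLocFree_of_isInvertible hP)
  obtain ⟨e'⟩ := sd _ hFP b hb
  have h1 : Subsingleton (Coh.HH X ((DCoh.sheafHom (CohB1.tensorMod F P)).obj ω) (n - b)) := by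
    have h2 : mc ((DCoh.sheafHom (CohB1.tensorMod F P)).obj ω) = u⁻¹ • mc ((DCoh.sheafHom F).obj ω) := by
      rw [mc_eq e, mc_tensor, hu', smul_def]
    rw [← V_mc, h2]
    exact hv
  have h3 : Subsingleton (Coh.HH X (CohB1.tensorMod F P) b) := subsingleton_of_dual e'
  rw [smul_def, ← hu, mul_comm, ← mc_tensor]
  exact h3

end K911.Dual
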