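import Groth.Prelude.Def_LogNCD2
import Groth.Agent.Divis.BlowChart2
import Groth.Agent.Pi1.H403.RelSNCBase
import Groth.Agent.Pi1.H411.Chart

/-!
# Normal crossing divisors: base change, effective Cartier ideals

* `isNCD_of_isPullback`: `LogNCD.IsNCD` is stable under base change;
* `isEff_of_isNCD`: the components of a normal crossing divisor are effective Cartier ideals;
-/

set_option autoImplicit false
universe u

open CategoryTheory CategoryTheory.Limits AlgebraicGeometry TopologicalSpace Opposite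

namespace K911.Ncd

open LogNCD Groth.Agent.Divis.IdealComap Groth.Agent.Divis.EffCartier Groth.Agent.Divis.BlowChart2
open Groth.Agent.Pi1.H403.RelSNCBase

variable {X S X' S' : Scheme.{u}} {f : X ⟶ S} {f' : X' ⟶ S'} {g : X' ⟶ X} {b : S' ⟶ S}

theorem mem_support_comap (I : X.IdealSheafData) (g : X' ⟶ X) (x' : X') :
    x' ∈ (I.comap g).support ↔ g x' ∈ I.support := by
  rw [Scheme.IdealSheafData.support_comap]
  rfl

/-- The components through a point of the source are those through the image. -/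
def throughEquiv {r : ℕ} (D : Fin r → X.IdealSheafData) (g : X' ⟶ X) (x' : X') :
    Through (fun i => (D i).comap g) x' ≃ Through D (g x') :=
  Equiv.subtypeEquivRight fun i => mem_support_comap (D i) g x'

theorem sectOn_eq (W : X.Opens) {U : X.Opens} (h : U ≤ W) (s : Γ(W, ⊤)) :
    sectOn W h s = X.presheaf.map (homOfLE h).op (W.topIso.hom s) := rfl

theorem sectOn_res (W : X.Opens) {U V : X.Opens} (h : U ≤ W) (h' : V ≤ U) (s : Γ(W, ⊤)) :
    X.presheaf.map (homOfLE h').op (sectOn W h s) = sectOn W (h'.trans h) s := by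
  rw [sectOn_eq, sectOn_eq, ← homOfLE_comp h' h, op_comp, Functor.map_comp]
  rfl

theorem restrict_appTop_topIso (g : X' ⟶ X) (W : X.Opens) :
    (g ∣_ W).appTop ≫ (g ⁻¹ᵁ W).topIso.hom = W.topIso.hom ≫ g.app W := by
  have h1 : W.topIso.hom ≫ g.app W = g.app (W.ι ''ᵁ ⊤) ≫
      X'.presheaf.map ((Opens.map g.base).map (eqToHom W.ι_image_top.symm)).op := g.naturality _
  rw [h1]
  refine (congrArg (· ≫ (g ⁻¹ᵁ W).topIso.hom) (morphismRestrict_appTop g W)).trans ?_
  refine (Category.assoc _ _ _).trans ?_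
  refine congrArg (g.app (W.ι ''ᵁ ⊤) ≫ ·) ?_
  exact ((X'.presheaf.map_comp _ _).symm).trans (congrArg X'.presheaf.map (Subsingleton.elim _ _))

/-- Functions on an open, pulled back. -/
theorem appLE_sectOn (g : X' ⟶ X) (W : X.Opens) {U : X.Opens} {U' : X'.Opens} (h : U ≤ W)
    (e : U' ≤ g ⁻¹ᵁ U) (s : Γ(W, ⊤)) :
    g.appLE U U' e (sectOn W h s) =
      sectOn (g ⁻¹ᵁ W) (e.trans (g.preimage_mono h)) ((g ∣_ W).appTop s) := by
  have h2 := congr($(restrict_appTop_topIso g W) s)
  rw [sectOn_eq, sectOn_eq]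
  change (X.presheaf.map (homOfLE h).op ≫ g.appLE U U' e) (W.topIso.hom s) = _
  rw [Scheme.Hom.map_appLE, Scheme.Hom.appLE]
  exact congrArg (X'.presheaf.map (homOfLE (e.trans (g.preimage_mono h))).op) h2.symm

/-- Normal crossing divisors are stable under base change. -/
theorem isNCD_of_isPullback (sq : IsPullback g f' f b) {r : ℕ} {D : Fin r → X.IdealSheafData}
    (hD : IsNCD D f) : IsNCD (fun i => (D i).comap g) f' := by
  intro x' hx'
  obtain ⟨W, hxW, n, v, e, he, het, hv, hv'⟩ := hD (g x') (hx'.map (throughEquiv D g x'))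
  have sq2 : IsPullback (g ∣_ W) ((g ⁻¹ᵁ W).ι ≫ f') (W.ι ≫ f) b :=
    (isPullback_morphismRestrict g W).paste_vert sq
  have key : ∀ (U' : X'.affineOpens) (_ : U'.1 ≤ g ⁻¹ᵁ W) (x : X') (_ : x ∈ U'.1),
      ∃ (U : X.affineOpens) (V' : X'.affineOpens), x ∈ V'.1 ∧ V'.1 ≤ U'.1 ∧ U.1 ≤ W ∧
        V'.1 ≤ g ⁻¹ᵁ U.1 := by
    intro U' hU' x hx
    obtain ⟨U, V', hfx, hxV', hV', hU, e⟩ := exists_affine_le g x U'.1 hx W (hU' hx)
    exact ⟨U, V', hxV', hV', hU, e⟩
  refine ⟨g ⁻¹ᵁ W, hxW, n, fun i => (g ∣_ W).appTop (v i), e ∘ throughEquiv D g x',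
    he.comp (Equiv.injective _), etale_homOfVector_of_isPullback sq2 v het, ?_, ?_⟩
  · intro i U' hU'
    refine ideal_eq_span_of_local U' _ fun x hx => ?_
    obtain ⟨U, V', hxV', hV', hU, eV⟩ := key U' hU' x hx
    refine ⟨V', hV', hxV', ?_⟩
    rw [ideal_comap _ g U V' eV]
    have h1 := hv (throughEquiv D g x' i) U hU
    change (D i.1).ideal U = _ at h1
    rw [h1, Ideal.map_span, Set.image_singleton, sectOn_res]
    congr 2
    exact appLE_sectOn g W hU eV _
  · intro i hi U' hU'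
    rw [← Ideal.span_singleton_one]
    refine ideal_eq_span_of_local U' _ fun x hx => ?_
    obtain ⟨U, V', hxV', hV', hU, eV⟩ := key U' hU' x hx
    refine ⟨V', hV', hxV', ?_⟩
    rw [ideal_comap _ g U V' eV, hv' i (fun h => hi ((mem_support_comap (D i) g x').2 h)) U hU,
      Ideal.map_top, map_one, Ideal.span_singleton_one]

/-- The coordinates are nonzerodivisors. -/
theorem sectOn_mem_nonZeroDivisors (f : X ⟶ S) {W : X.Opens} {n : ℕ} (v : ULift.{u} (Fin n) → Γ(W, ⊤))
    (het : Etale (AffineSpace.homOfVector (W.ι ≫ f) v)) (V : S.affineOpens) (U : X.affineOpens)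
    (hU : U.1 ≤ W) (hVU : U.1 ≤ f ⁻¹ᵁ V.1) (k : ULift.{u} (Fin n)) :
    sectOn W hU (v k) ∈ nonZeroDivisors Γ(X, U.1) := by
  have h1 := Groth.Agent.Pi1.H411.Chart.etale_eval₂Hom_appLE f V.1 V.2 U.1 U.2 hVU W hU v het
  have h2 : (MvPolynomial.eval₂Hom (f.appLE V.1 U.1 hVU).hom
      (fun j => X.presheaf.map (homOfLE hU).op (W.topIso.hom (v j)))).Flat := by
    let _ := (MvPolynomial.eval₂Hom (f.appLE V.1 U.1 hVU).hom
      (fun j => X.presheaf.map (homOfLE hU).op (W.topIso.hom (v j)))).toAlgebra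
    have : Algebra.Etale (MvPolynomial (ULift.{u} (Fin n)) Γ(S, V.1)) Γ(X, U.1) := h1
    exact (inferInstance : Module.Flat (MvPolynomial (ULift.{u} (Fin n)) Γ(S, V.1)) Γ(X, U.1))
  have h3 := map_mem_nonZeroDivisors_of_flat _ h2 (a := MvPolynomial.X k) (by
    rw [mem_nonZeroDivisors_iff_right]
    intro p hp
    exact (MvPolynomial.X_mul_cancel_right_iff (i := k)).1 (hp.trans (zero_mul _).symm))
  rw [MvPolynomial.eval₂Hom_X'] at h3
  exact h3

theorem ideal_eq_top_of_disjoint (I : X.IdealSheafData) (V : X.affineOpens)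
    (h : ∀ x ∈ V.1, x ∉ I.support) : I.ideal V = ⊤ := by
  rw [← PrimeSpectrum.zeroLocus_empty_iff_eq_top]
  have h1 := I.coe_support_inter V
  have h2 := V.2.fromSpec_image_zeroLocus (I.ideal V)
  rw [← h1] at h2
  have h3 : ((I.support : Set X) ∩ (V.1 : Set X)) = ∅ := by
    ext x
    simp only [Set.mem_inter_iff, Set.mem_empty_iff_false, iff_false, not_and]
    exact fun hx hV => h x hV hx
  rw [h3, Set.image_eq_empty] at h2
  exact h2

/-- Local equations of a normal crossing divisor at a point: nonzerodivisors on small affine opens. -/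
theorem exists_equations {r : ℕ} {D : Fin r → X.IdealSheafData} (hD : IsNCD D f) (x : X)
    (O : X.Opens) (hx : x ∈ O) :
    ∃ (U : X.affineOpens) (g : Fin r → Γ(X, U.1)), x ∈ U.1 ∧ U.1 ≤ O ∧
      (∀ i, (D i).ideal U = Ideal.span {g i}) ∧ ∀ i, g i ∈ nonZeroDivisors Γ(X, U.1) := by
  classical
  by_cases hT : Nonempty (Through D x)
  · obtain ⟨W, hxW, n, v, e, he, het, hv, hv'⟩ := hD x hT
    obtain ⟨V, U, hfx, hxU, hUO, -, eU⟩ := exists_affine_le f x (O ⊓ W) ⟨hx, hxW⟩ ⊤ trivial
    have hUW : U.1 ≤ W := hUO.trans inf_le_right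
    refine ⟨U, fun i => if h : x ∈ (D i).support then sectOn W hUW (v (ULift.up (e ⟨i, h⟩))) else 1,
      hxU, hUO.trans inf_le_left, fun i => ?_, fun i => ?_⟩
    · by_cases h : x ∈ (D i).support
      · simp only [h, dif_pos]
        exact hv ⟨i, h⟩ U hUW
      · simp only [h, dif_neg, not_false_iff]
        rw [hv' i h U hUW, Ideal.span_singleton_one]
    · by_cases h : x ∈ (D i).support
      · simp only [h, dif_pos]
        exact sectOn_mem_nonZeroDivisors f v het V U hUW eU _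
      · simp only [h, dif_neg, not_false_iff]
        exact one_mem _
  · -- `x` lies on no component
    let O' : X.Opens := ⟨(O : Set X) ∩ ⋂ i, ((D i).support : Set X)ᶜ,
      O.2.inter (isOpen_iInter_of_finite fun i => (D i).support.isClosed.isOpen_compl)⟩
    have hx' : x ∈ O' := ⟨hx, Set.mem_iInter.2 fun i h => hT ⟨⟨i, h⟩⟩⟩
    obtain ⟨U, hU, hxU, hUO⟩ := exists_isAffineOpen_mem_and_subset hx'
    refine ⟨⟨U, hU⟩, fun _ => 1, hxU, fun y hy => (hUO hy).1, fun i => ?_, fun i => one_mem _⟩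
    rw [Ideal.span_singleton_one]
    exact ideal_eq_top_of_disjoint _ _ fun y hy hyi => Set.mem_iInter.1 (hUO hy).2 i hyi

/-- The components of a normal crossing divisor are effective Cartier. -/
theorem isEff_of_isNCD {r : ℕ} {D : Fin r → X.IdealSheafData} (hD : IsNCD D f) (i : Fin r) :
    BlowUp.IsEffCartierIdeal (D i) := by
  intro x
  obtain ⟨U, g, hxU, -, h1, h2⟩ := exists_equations hD x ⊤ trivial
  exact ⟨U, hxU, g i, h2 i, h1 i⟩

end K911.Ncd
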