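import Groth.Agent.Vanish.K911.Coker
import Groth.Prelude.Def_LogNCD2

/-!
# The map `E ⊗ I ⟶ E` and the inclusion `I * 1 ⟶ 1`
-/

set_option autoImplicit false
universe u

open CategoryTheory CategoryTheory.Limits AlgebraicGeometry

namespace K911.One

open Groth.Agent Groth.Agent.Sga67.Sec Groth.Agent.Dix.IdealModCartier

variable {X : Scheme.{u}}

theorem toSubscheme_one : ClSub.toSubscheme (1 : X.IdealSheafData) = 0 := by
  apply hom_ext
  intro U s
  obtain ⟨n, hn⟩ := exists_val_eq_of_local (1 : X.IdealSheafData) U (show Γ(X, U) from s) fun x hx => by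
    obtain ⟨V, hxV, hVU⟩ := exists_affine_mem_le U x hx
    exact ⟨V, hVU, hxV, trivial⟩
  have h1 : s = appS (ClSub.idealModι (1 : X.IdealSheafData)) U n := hn.symm
  rw [h1, ← appS_comp]
  have h2 : ClSub.idealModι (1 : X.IdealSheafData) ≫ ClSub.toSubscheme (1 : X.IdealSheafData) = 0 :=
    kernel.condition _
  rw [h2]
  rfl

theorem isIso_idealModι_one : IsIso (ClSub.idealModι (1 : X.IdealSheafData)) := by
  have h : ∀ {M N : X.Modules} (φ : M ⟶ N), φ = 0 → IsIso (kernel.ι φ) := by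
    rintro M N φ rfl
    infer_instance
  exact h _ toSubscheme_one

theorem surjective_comp_iso {F G G' : X.Modules} (f : F ⟶ G) (e : G ≅ G') {b : ℕ}
    (h : Function.Surjective (Sheaf.H.map ((SheafOfModules.toSheaf X.ringCatSheaf).map f) b)) :
    Function.Surjective (Sheaf.H.map ((SheafOfModules.toSheaf X.ringCatSheaf).map (f ≫ e.hom)) b) := by
  intro y
  obtain ⟨x, hx⟩ := h (Sheaf.H.map ((SheafOfModules.toSheaf X.ringCatSheaf).map e.inv) b y)
  refine ⟨x, ?_⟩
  have e1 : (SheafOfModules.toSheaf X.ringCatSheaf).map (f ≫ e.hom) =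
      (SheafOfModules.toSheaf X.ringCatSheaf).map f ≫ (SheafOfModules.toSheaf X.ringCatSheaf).map e.hom :=
    Functor.map_comp _ _ _
  have e2 : (SheafOfModules.toSheaf X.ringCatSheaf).map e.inv ≫ (SheafOfModules.toSheaf X.ringCatSheaf).map e.hom =
      𝟙 _ :=
    (Functor.map_comp _ _ _).symm.trans ((congrArg _ e.inv_hom_id).trans (CategoryTheory.Functor.map_id _ _))
  rw [e1, Sheaf.H.map_comp_apply, hx, ← Sheaf.H.map_comp_apply, e2, Sheaf.H.map_id_apply]

/-- Surjectivity for `E ⊗ I ⟶ E` from surjectivity for `E ⊗ (J * K) ⟶ E ⊗ J`, `J = 1`. -/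
theorem surjective_inclTwist {E : X.Modules} {I J : X.IdealSheafData} (hJ : J = 1)
    {κ : ClSub.idealMod (J * I) ⟶ ClSub.idealMod J}
    (hκ : κ ≫ ClSub.idealModι J = ClSub.idealModι (J * I)) {b : ℕ}
    (h : Function.Surjective (Sheaf.H.map ((SheafOfModules.toSheaf X.ringCatSheaf).map
      (KoszTw.tensorMap (𝟙 E) κ)) b)) :
    Function.Surjective (Sheaf.H.map ((SheafOfModules.toSheaf X.ringCatSheaf).map
      (LogNCD.inclTwist E I)) b) := by
  subst hJ
  have e1 : (1 : X.IdealSheafData) * I = I := one_mul I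
  have : IsIso (ClSub.idealModι (1 : X.IdealSheafData)) := isIso_idealModι_one
  generalize (1 : X.IdealSheafData) * I = I' at *
  subst e1
  have e2 : LogNCD.inclTwist E I' = KoszTw.tensorMap (𝟙 E) κ ≫
      ((DCoh.tensorBi.obj E).mapIso (asIso (ClSub.idealModι (1 : X.IdealSheafData))) ≪≫ SecTwist.unitorR E).hom := by
    rw [LogNCD.inclTwist, ← hκ, ← KoszTw.tensorBi_obj_map, ← KoszTw.tensorBi_obj_map,
      Functor.map_comp]
    exact Category.assoc _ _ _
  rw [e2]
  exact surjective_comp_iso _ _ h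

end K911.One
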