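import Groth.Agent.Vanish.K911.Transfer

/-!
# The surjectivity statement in characteristic `p`, as a proposition
-/

set_option autoImplicit false
universe u
open CategoryTheory CategoryTheory.Limits AlgebraicGeometry

namespace K911.Transfer

open Groth.Agent

/-- Surjectivity of `H^m(M'(-∑ μ_j D_j)) → H^m(M')` for `m < p` in case of equality in the core inequality. -/
def CoreS : Prop :=
  ∀ (p : ℕ) [Fact p.Prime] (k : Type u) [Field k] [CharP k p] [PerfectRing k p]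
    (X : Scheme.{u}) [X.Over (Spec (CommRingCat.of k))] [IsProper (X ↘ Spec (CommRingCat.of k))]
    [Smooth (X ↘ Spec (CommRingCat.of k))] [IrreducibleSpace X]
    (H : X.Modules) (_ : CohB1.IsAmple H)
    (Xl : Scheme.{u}) (g : Xl ⟶ Spec (CommRingCat.of (FrobAlg.W2 p k))) [Flat g] (i : X ⟶ Xl)
    (_ : IsPullback i (X ↘ Spec (CommRingCat.of k)) g (Spec.map (CommRingCat.ofHom (FrobAlg.res p k))))
    {r : ℕ} (D : Fin r → X.IdealSheafData) (_ : LogNCD.IsNCD D (X ↘ Spec (CommRingCat.of k)))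
    (Dl : Fin r → Xl.IdealSheafData) (_ : ∀ j, (Dl j).comap i = D j) (_ : ∀ j, Flat ((Dl j).subschemeι ≫ g))
    {Ω' : X.Modules} (d : OmegaSh.Der (X ↘ Spec (CommRingCat.of k)) Ω') (_ : OmegaSh.IsUniversal d)
    (Λ : LogNCD.LogMod d D) (La : ℕ → X.Modules) (_ : ∀ a, ExtPow.IsExtPow a Λ.L (La a))
    (M M' : X.Modules) (_ : PicF.IsInvertible M) (_ : PicF.IsInvertible M')
    (e : Fin r → ℕ) (_ : ∀ j, e j ≤ p - 1)
    (_ : Nonempty (CohB1.tensorMod M' (ClSub.idealMod (∏ j, D j ^ e j)) ≅ CohB1.tensorPow M p))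
    (μ : Fin r → ℕ) (_ : ∀ j, μ j ≤ e j) (m : ℕ) (_ : m < p)
    (_ : ∑ a ∈ Finset.range (m + 1), Module.finrank k (Coh.HH X (CohB1.tensorMod (La a) M') (m - a)) ≤
      ∑ a ∈ Finset.range (m + 1), Module.finrank k (Coh.HH X (CohB1.tensorMod (La a) M) (m - a))),
    Function.Surjective (Sheaf.H.map ((SheafOfModules.toSheaf X.ringCatSheaf).map
      (KoszTw.tensorMap (𝟙 M') (ClSub.idealModι (∏ j, D j ^ μ j)))) m)

end K911.Transfer
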