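import Groth.Agent.Vanish.K911.Spread104
import Groth.Agent.Vanish.K911.CoreS
import Groth.Agent.Surf.K464.Cohom
import Groth.Agent.Fga.DimLt

/-!
# The surjectivity theorem in characteristic `p` from the two core statements
-/

set_option autoImplicit false
universe u
open CategoryTheory CategoryTheory.Limits AlgebraicGeometry

namespace K911.SurjP

open Groth.Agent Groth.Agent.Fga.PicMon Groth.Agent.Pic13.H11.Cls K911.DivCls K911.Transfer K911.PicCalc Finset

section Grp

variable {P : Type*} [CommGroup P] {r : ℕ}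

/-- The exponents of the Frobenius step. -/
def ex (N p : ℕ) (α : Fin r → ℕ) (b : Fin r → Prop) [DecidablePred b] (i : ℕ) (j : Fin r) : ℕ :=
  (p * (i * α j) / N - p * (i * α j / N)) + if b j then p - 1 else 0

theorem ex_le (N p : ℕ) (hN : 0 < N) (hp : 0 < p) (α : Fin r → ℕ) (b : Fin r → Prop) [DecidablePred b]
    (hα : ∀ j, b j → α j = 0) (i : ℕ) (j : Fin r) : ex N p α b i j ≤ p - 1 := by
  unfold ex
  by_cases hb : b j
  · simp [hb, hα j hb]
  · have := div_bounds N p (i * α j) hN hp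
    simp only [hb, if_false, add_zero]
    omega

theorem step_id (δ : Fin r → P) (ℓ : P) (N : ℕ) (hN : 0 < N) (p : ℕ) (hp : 0 < p) (α : Fin r → ℕ)
    (b : Fin r → Prop) [DecidablePred b] (i : ℕ) :
    E δ ℓ N α (∏ j ∈ univ.filter b, δ j) (p * i) * ∏ j, δ j ^ ex N p α b i j =
      E δ ℓ N α (∏ j ∈ univ.filter b, δ j) i ^ p := by
  have h1 : ∏ j, δ j ^ ex N p α b i j =
      (∏ j, δ j ^ (p * (i * α j) / N)) * (∏ j, δ j ^ (p * (i * α j / N)))⁻¹ *
        (∏ j ∈ univ.filter b, δ j) ^ (p - 1) := by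
    rw [← Finset.prod_pow, Finset.prod_filter, ← Finset.prod_inv_distrib, ← Finset.prod_mul_distrib,
      ← Finset.prod_mul_distrib]
    refine Finset.prod_congr rfl fun j _ => ?_
    rw [ex, pow_add, pow_sub _ (div_bounds N p (i * α j) hN hp).1]
    by_cases hb : b j <;> simp [hb]
  rw [h1]
  unfold E
  have h2 : ∏ j, δ j ^ (p * i * α j / N) = ∏ j, δ j ^ (p * (i * α j) / N) :=
    Finset.prod_congr rfl fun j _ => by rw [mul_assoc]
  have h3 : ∏ j, δ j ^ (p * (i * α j / N)) = (∏ j, δ j ^ (i * α j / N)) ^ p := by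
    rw [← Finset.prod_pow]
    exact Finset.prod_congr rfl fun j _ => by rw [mul_comm, pow_mul]
  rw [h2, h3]
  generalize (∏ j, δ j ^ (p * (i * α j) / N)) = A
  generalize (∏ j, δ j ^ (i * α j / N)) = C
  generalize (∏ j ∈ univ.filter b, δ j) = B
  obtain ⟨p, rfl⟩ : ∃ q, p = q + 1 := ⟨p - 1, by omega⟩
  rw [Nat.add_sub_cancel, mul_pow, mul_pow, inv_pow, inv_pow, ← pow_mul, mul_comm i (p + 1)]
  rw [pow_succ B p]
  calc (ℓ ^ ((p + 1) * i))⁻¹ * A⁻¹ * B * (A * (C ^ (p + 1))⁻¹ * B ^ p)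
      = (A⁻¹ * A) * ((ℓ ^ ((p + 1) * i))⁻¹ * (C ^ (p + 1))⁻¹ * (B ^ p * B)) := by
        simp only [mul_comm, mul_left_comm, mul_assoc]
    _ = _ := by rw [inv_mul_cancel, one_mul]

/-- `p` divides `α_j + e_j N`. -/
theorem dvd_ex (N p : ℕ) (hN : 0 < N) (α : Fin r → ℕ) (b : Fin r → Prop) [DecidablePred b]
    {q K : ℕ} (hq : p * q = 1 + N * K) (j : Fin r) (hj : ¬ b j) (hα : α j < N) :
    p ∣ α j + ex N p α b q j * N := by
  have h1 : p * (q * α j) / N = K * α j := by
    have : p * (q * α j) = α j + N * (K * α j) := by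
      rw [← mul_assoc, hq]; ring
    rw [this, Nat.add_mul_div_left _ _ hN, Nat.div_eq_of_lt hα, zero_add]
  have h2 := Nat.div_add_mod (q * α j) N
  have hle : p * (q * α j / N) ≤ K * α j := by
    rw [← h1]
    exact Nat.mul_div_le_mul_div_assoc p (q * α j) N
  have h3 : α j + ex N p α b q j * N = p * (q * α j % N) := by
    unfold ex
    rw [if_neg hj, add_zero, h1]
    zify [hle]
    have e1 : (p : ℤ) * q = 1 + N * K := by exact_mod_cast hq
    have e2 : (N : ℤ) * ((q * α j / N : ℕ) : ℤ) + ((q * α j % N : ℕ) : ℤ) = q * α j := by exact_mod_cast h2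
    push_cast at e2 ⊢
    linear_combination (-(α j : ℤ)) * e1 - (p : ℤ) * e2
  exact ⟨_, h3⟩

end Grp

section Geom

variable (k : Type u) [Field k] {X : Scheme.{u}} [X.Over (Spec (CommRingCat.of k))]
  [IsProper (X ↘ Spec (CommRingCat.of k))]

/-- The exact sequence `0 → M ⊗ I → M ⊗ O → M ⊗ (O/I) → 0`. -/
noncomputable def oseq (M : X.Modules) (I : X.IdealSheafData) : ShortComplex X.Modules :=
  (ShortComplex.mk (ClSub.idealModι I) (cokernel.π (ClSub.idealModι I)) (cokernel.condition _)).map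
    (DCoh.tensorBi.obj M)

omit [X.Over (Spec (CommRingCat.of k))] [IsProper (X ↘ Spec (CommRingCat.of k))] in
theorem oseq_f (M : X.Modules) (I : X.IdealSheafData) :
    (oseq M I).f = KoszTw.tensorMap (𝟙 M) (ClSub.idealModι I) := KoszTw.tensorBi_obj_map M _

theorem shortExact_oseq {M : X.Modules} (hM : PicF.IsInvertible M) (I : X.IdealSheafData) :
    (oseq M I).ShortExact := by
  refine Fga.TwistCoh.shortExact_tensorBi hM _ ?_
  exact { exact := ShortComplex.exact_cokernel _ }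

theorem osurj_iff {M : X.Modules} (hM : PicF.IsInvertible M) {I : X.IdealSheafData}
    (hI : BlowUp.IsEffCartierIdeal I) :
    (∀ b, Function.Surjective (Sheaf.H.map ((SheafOfModules.toSheaf X.ringCatSheaf).map
      (KoszTw.tensorMap (𝟙 M) (ClSub.idealModι I))) b)) ↔
    Surj.NumSurj k (CohB1.tensorMod M (ClSub.idealMod I)) (CohB1.tensorMod M (Coh.structureModule X))
      (CohB1.tensorMod M (cokernel (ClSub.idealModι I))) := by
  have hO : Coh.IsCoh (Coh.structureModule X) :=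
    Fga.HodgeSec.isCoh_of_isInvertible Fdesc.LocGen.isInvertible_structureModule
  have hI1 : Coh.IsCoh (ClSub.idealMod I) :=
    Fga.HodgeSec.isCoh_of_isInvertible (Dix.IdealModCartier.isInvertible_idealMod hI)
  have hQ1 : Coh.IsCoh (cokernel (ClSub.idealModι I)) := Sga67.CohBasic.isCoh_cokernel _ hI1.1 hO
  rw [← oseq_f]
  exact Surj.surjective_iff_of_isCoh k (oseq M I) (shortExact_oseq hM I) (Fga.SnapperTwist.isCoh_tensor' hM hI1)
    (Fga.SnapperTwist.isCoh_tensor' hM hO) (Fga.SnapperTwist.isCoh_tensor' hM hQ1)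

omit [X.Over (Spec (CommRingCat.of k))] [IsProper (X ↘ Spec (CommRingCat.of k))] in
theorem genericPoint_notMem [IsIntegral X] {E : X.IdealSheafData}
    (hE : BlowUp.IsEffCartierIdeal E) : genericPoint X ∉ E.support := by
  intro h
  obtain ⟨U, hxU, a, ha, hIa⟩ := hE (genericPoint X)
  rw [Scheme.IdealSheafData.mem_support_iff_of_mem hxU, hIa] at h
  have hne : Nonempty U.1 := ⟨⟨_, hxU⟩⟩
  have ha0 : a ≠ 0 := nonZeroDivisors.ne_zero ha
  have h1 : genericPoint X ∈ X.basicOpen a := by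
    by_contra h2
    apply ha0
    have h3 : X.basicOpen a = ⊥ := by
      rw [← TopologicalSpace.Opens.not_nonempty_iff_eq_bot]
      intro h4
      exact h2 (((genericPoint_spec X).mem_open_set_iff (X.basicOpen a).isOpen).2 (by simpa using h4))
    exact (basicOpen_eq_bot_iff a).1 h3
  rw [Scheme.mem_zeroLocus_iff] at h
  exact h a (Ideal.mem_span_singleton_self a) h1

include k in
/-- The cohomology of the restriction to a divisor vanishes above the dimension of the divisor. -/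
theorem subsingleton_coker [IsIntegral X] {n : ℕ} (hn : topologicalKrullDim X = n) {M : X.Modules}
    (hM : PicF.IsInvertible M) {I : X.IdealSheafData} (hI : BlowUp.IsEffCartierIdeal I) {b : ℕ} (hb : n ≤ b)
    (hb0 : 0 < b) : Subsingleton (Coh.HH X (CohB1.tensorMod M (cokernel (ClSub.idealModι I))) b) := by
  obtain ⟨c, rfl⟩ : ∃ c, b = c + 1 := ⟨b - 1, by omega⟩
  have hne : (I.support : Set X) ≠ Set.univ := by
    intro h
    have h1 : genericPoint X ∈ (I.support : Set X) := by rw [h]; trivial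
    exact genericPoint_notMem hI h1
  have huniv : topologicalKrullDim (Set.univ : Set X) < ((c + 1 + 1 : ℕ) : WithBot ℕ∞) := by
    have h1 : topologicalKrullDim (Set.univ : Set X) ≤ topologicalKrullDim X :=
      Topology.IsInducing.subtypeVal.topologicalKrullDim_le
    refine lt_of_le_of_lt (h1.trans hn.le) ?_
    exact_mod_cast Nat.lt_succ_of_le hb
  have hd : topologicalKrullDim (I.support : Set X) < ((c + 1 : ℕ) : WithBot ℕ∞) :=
    Fga.DimLt.topologicalKrullDim_lt (A := Set.univ) (irreducibleSpace_def X |>.mp inferInstance)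
      I.support.isClosed (Set.subset_univ _) hne huniv
  have h2 := K464.Cohom.subsingleton_HH_gt k I (Fga.IntNum0.withBot_le_of_lt_succ (r := c) hd) hM (c + 1)
    (Nat.lt_succ_self c)
  obtain ⟨e⟩ := K464.Cohom.nonempty_coker_iso I
  rw [← V_mc, mc_tensor, mc_eq e, mul_comm, ← mc_tensor]
  exact h2

end Geom

/-- **The surjectivity theorem in positive characteristic.** -/
theorem surjP (hC : CoreP.{u}) (hS : CoreS.{u}) : Spread104.SurjP.{u} := by
  intro p _ k _ _ _ X _ _ _ _ n hn hnp H hH Xl g _ i hlift r D hD Dl hDl hDlf L Linv hL hLinv N hN hNp s α hα hαs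
    hLN μ hμ hμp κ hκ
  have hp : p.Prime := Fact.out
  have hp0 := hp.pos
  have hX : IsIntegral X := Geo.isIntegral_of_smooth (X ↘ Spec (CommRingCat.of k))
  have hE : ∀ j, BlowUp.IsEffCartierIdeal (D j) := K911.Ncd.isEff_of_isNCD hD
  have hρ : (unit hL : (MC X)ˣ) ^ N * ∏ j, dcl (hE j) ^ α j = 1 := by
    apply Units.ext
    rw [Units.val_mul, Units.val_pow_eq_pow_val, unit_val, ← mc_tensorPow, ← mc_prod_pow Finset.univ hE,
      Units.val_one]
    exact isInverseOf_iff.1 hLN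
  obtain ⟨Ω', d, hd, Λ, La, hLa, hLc⟩ := exists_logPows (X ↘ Spec (CommRingCat.of k)) hD
  have core := coreFor hC p k X H hH Xl g i hlift D hD Dl hDl hDlf d hd Λ La hLa hE
  -- the inverse of `p` modulo `N`
  obtain ⟨t, K, hqp⟩ : ∃ t K : ℕ, p * p ^ t = 1 + N * K := by
    have h3 : p ^ (Nat.totient N) ≡ 1 [MOD N] := Nat.ModEq.pow_totient hNp.symm
    have h4 : 0 < Nat.totient N := Nat.totient_pos.2 hN
    obtain ⟨t, ht⟩ : ∃ t, Nat.totient N = t + 1 := ⟨Nat.totient N - 1, by omega⟩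
    rw [ht, pow_succ'] at h3
    have h5 : 1 ≤ p * p ^ t := Nat.mul_pos hp0 (pow_pos hp0 t)
    obtain ⟨K, hK⟩ := (Nat.modEq_iff_dvd' h5).1 h3.symm
    exact ⟨t, K, by omega⟩
  have hαN : ∀ j, α j < N := fun j => by
    by_cases h : j ∈ s
    · rw [hαs j h]; exact hN
    · exact (hα j h).2
  let c : ℕ → (MC X)ˣ := PicCalc.E (fun j => dcl (hE j)) (unit hL) N α (∏ j ∈ univ.filter (· ∈ s), dcl (hE j))
  have hfs : univ.filter (· ∈ s) = s := by ext j; simp
  have hc1 : c 1 = (unit hL)⁻¹ * ∏ j ∈ s, dcl (hE j) := by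
    change PicCalc.E _ _ _ _ _ 1 = _
    rw [E_one _ _ _ _ _ hαN, hfs]
  have hcp : c (p * p ^ t) = c 1 := by
    rw [hqp]
    exact E_add_mul _ _ _ hN _ _ hρ 1 K
  obtain ⟨M, hM, hcM⟩ := exists_invertible (c (p ^ t))
  obtain ⟨M', hM', hcM'⟩ := exists_invertible (c 1)
  let e : Fin r → ℕ := ex N p α (· ∈ s) (p ^ t)
  have he : ∀ j, e j ≤ p - 1 := ex_le N p hN hp0 α (· ∈ s) hαs (p ^ t)
  have hid : c 1 * ∏ j, dcl (hE j) ^ e j = c (p ^ t) ^ p := by
    rw [← hcp]
    exact step_id (fun j => dcl (hE j)) (unit hL) N hN p hp0 α (· ∈ s) (p ^ t)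
  have hiso : Nonempty (CohB1.tensorMod M' (ClSub.idealMod (∏ j, D j ^ e j)) ≅ CohB1.tensorPow M p) := by
    rw [← mc_eq_iff, mc_tensor, mc_tensorPow, hcM, hcM', mc_prod_pow Finset.univ hE]
    exact congrArg Units.val hid
  have hμe : ∀ j, μ j ≤ e j := fun j => by
    by_cases hj : j ∈ s
    · rw [hμ j hj]; exact Nat.zero_le _
    · by_contra h
      exact hμp j (e j) hj (not_le.1 h) (dvd_ex N p hN α (· ∈ s) hqp j hj (hαN j))
  -- surjectivity in all degrees
  have hI : BlowUp.IsEffCartierIdeal (∏ j, D j ^ μ j) := isEff_prod_pow Finset.univ D hE μ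
  have key : ∀ m, Function.Surjective (Sheaf.H.map ((SheafOfModules.toSheaf X.ringCatSheaf).map
      (KoszTw.tensorMap (𝟙 M') (ClSub.idealModι (∏ j, D j ^ μ j)))) m) := by
    intro m
    by_cases hm : m < p
    · refine hS p k X H hH Xl g i hlift D hD Dl hDl hDlf d hd Λ La hLa M M' hM hM' e he hiso μ hμe m hm ?_
      rw [← S_eq k La m M hcM, ← S_eq k La m M' hcM']
      have h1 := step_pow (fun j => dcl (hE j)) (unit hL) N hN p hp0 α (· ∈ s) hαs (S k La m) (core m hm) 1 t
      rw [mul_one] at h1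
      exact h1
    · have h1 := subsingleton_coker k hn hM' hI (b := m) (by omega) (by omega)
      have h2 := shortExact_oseq hM' (∏ j, D j ^ μ j)
      have h3 : Function.Surjective (VarietyA.EulerLES.mapA k (oseq M' (∏ j, D j ^ μ j)).f m) := by
        intro y
        exact (VarietyA.EulerLES.exactA₂ k _ h2 m y).mp (h1.elim _ _)
      rw [oseq_f] at h3
      exact h3
  rw [osurj_iff k hM' hI] at key
  -- the comparison
  have hBs : BlowUp.IsEffCartierIdeal (∏ j ∈ s, D j) := isEff_prod s D hE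
  have hK : BlowUp.IsEffCartierIdeal ((∏ j ∈ s, D j) * ∏ j, D j ^ μ j) := Divis.EffCartier.isEff_mul hBs hI
  have hLi : PicF.IsInvertible Linv := Spread104.isInvertible_inv hL hLinv
  refine (Coker.surj_iff k hLi hκ hK hBs).2 ?_
  have hmcL : mc Linv = (((unit hL)⁻¹ : (MC X)ˣ) : MC X) := unit_inv hL hLinv
  have hmcM' : mc M' = mc Linv * mc (ClSub.idealMod (∏ j ∈ s, D j)) := by
    rw [hcM', hc1, hmcL, mc_prod s hE, Units.val_mul]
  have e1 : mc (CohB1.tensorMod M' (ClSub.idealMod (∏ j, D j ^ μ j))) =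
      mc (CohB1.tensorMod Linv (ClSub.idealMod ((∏ j ∈ s, D j) * ∏ j, D j ^ μ j))) := by
    rw [mc_tensor, mc_tensor, mc_idealMod_mul hBs hI, hmcM', mul_assoc]
  have e2 : mc (CohB1.tensorMod M' (Coh.structureModule X)) =
      mc (CohB1.tensorMod Linv (ClSub.idealMod (∏ j ∈ s, D j))) := by
    rw [mc_tensor, mc_tensor, mc_one, mul_one, hmcM']
  have e3 : mc (CohB1.tensorMod M' (cokernel (ClSub.idealModι (∏ j, D j ^ μ j)))) =
      mc (CohB1.tensorMod Linv (cokernel κ)) := by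
    have hle := K464.Cohom.mul_le_left' (∏ j ∈ s, D j) (∏ j, D j ^ μ j)
    have h4 : κ = Dix.TwistClosed490.incl hle := by
      rw [← cancel_mono (ClSub.idealModι (∏ j ∈ s, D j)), hκ, Dix.TwistClosed490.incl_ι]
    obtain ⟨e⟩ := K464.Cohom.nonempty_coker_iso' (W := ∏ j, D j ^ μ j) hBs hle
    obtain ⟨e'⟩ := K464.Cohom.nonempty_coker_iso (∏ j, D j ^ μ j)
    rw [mc_tensor, mc_tensor, h4, mc_eq e, mc_eq e', mc_tensor, hmcM', mul_assoc, mul_comm (mc (ClSub.quotMod _))]
  unfold Surj.NumSurj at key ⊢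
  simp only [← h_mc] at key ⊢
  rw [← e1, ← e2, ← e3]
  exact key

end K911.SurjP
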