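import Groth.Agent.Dix.IdealModCartier
import Groth.Agent.Krr.H487.ExtPull
import Groth.Agent.Sga67.LocBasis
import Groth.Agent.Krr.H478.Cosection

/-!
# Pull-back of ideal modules, compatibly with the inclusions

* `unitHom q : q^* O_X ⟶ O_Y`, an isomorphism;
* `idealIso`: `q^* (idealMod D) ≅ idealMod (D.comap q)` compatible with the inclusions when both ideals are effective
  Cartier.
-/

set_option autoImplicit false
universe u

open CategoryTheory CategoryTheory.Limits AlgebraicGeometry Opposite TopologicalSpace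

namespace K911.PullIdeal

open Groth.Agent Groth.Agent.Sga67.Sec Groth.Agent.Sga67.LocBasis Groth.Agent.Krr.H487.LocBasisPull
open Groth.Agent.Dix.IdealModCartier Groth.Agent.Krr.H478.Cosection Groth.Agent.Sga67.TensorOps
open Groth.Agent.Divis.IdealComap
open Groth.Agent.Fdesc.LocGen (ores)

variable {X Y : Scheme.{u}} (q : Y ⟶ X)

/-- A morphism from a pull-back is determined by its values on pulled back sections. -/
theorem hom_ext_pbS {M : X.Modules} {N : Y.Modules} {φ ψ : (Scheme.Modules.pullback q).obj M ⟶ N}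
    (h : ∀ (U : X.Opens) (s : Sec M U), appS φ (q ⁻¹ᵁ U) (pbS q M s) = appS ψ (q ⁻¹ᵁ U) (pbS q M s)) : φ = ψ := by
  apply ((Scheme.Modules.pullbackPushforwardAdjunction q).homEquiv _ _).injective
  apply hom_ext
  intro U s
  rw [Adjunction.homEquiv_unit, Adjunction.homEquiv_unit]
  exact h U s

theorem exists_unitHom : ∃ ε : (Scheme.Modules.pullback q).obj (Coh.structureModule X) ⟶ Coh.structureModule Y,
    IsIso ε ∧ ∀ (U : X.Opens) (a : Γ(X, U)),
      toO (appS ε (q ⁻¹ᵁ U) (pbS q _ (a • one X U))) = (q.app U a : Γ(Y, q ⁻¹ᵁ U)) := by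
  obtain ⟨h, hh⟩ := exists_hom_unit ((Scheme.Modules.pushforward q).obj (Coh.structureModule Y))
    (show Sec ((Scheme.Modules.pushforward q).obj (Coh.structureModule Y)) ⊤ from one Y ⊤)
  have h1 : ∀ U : X.Opens, appS (adj q h) (q ⁻¹ᵁ U) (pbS q _ (one X U)) = one Y (q ⁻¹ᵁ U) := by
    intro U
    rw [adj_pbS, hh]
    exact res_one Y _
  refine ⟨adj q h, ?_, ?_⟩
  · apply isIso_of_bijective
    intro y O hy
    have hg : Gen (one X ⊤) := isLocBasis_one
    have hg' : Gen (one Y ⊤) := isLocBasis_one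
    refine ⟨O, le_rfl, hy, Groth.Agent.Krr.H487.ExtPull.bijective_of_locBasis (adj q h) (hg.pbS q)
      (c := fun _ : Fin 1 => one Y ⊤) hg' (fun _ => h1 ⊤) le_top⟩
  · intro U a
    rw [pbS_smul, map_smul, h1, toO_smul]
    exact mul_one _

/-- `q^* O_X ⟶ O_Y` -/
noncomputable def unitHom : (Scheme.Modules.pullback q).obj (Coh.structureModule X) ⟶ Coh.structureModule Y :=
  (exists_unitHom q).choose

instance : IsIso (unitHom q) := (exists_unitHom q).choose_spec.1

theorem unitHom_pbS (U : X.Opens) (a : Γ(X, U)) :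
    toO (appS (unitHom q) (q ⁻¹ᵁ U) (pbS q _ (a • one X U))) = (q.app U a : Γ(Y, q ⁻¹ᵁ U)) :=
  (exists_unitHom q).choose_spec.2 U a

/-- Pull-backs of functions in the ideal are in the inverse image ideal. -/
theorem exists_val_pull (D : X.IdealSheafData) (U : X.Opens) (s : Γ(ClSub.idealMod D, U)) :
    ∃ n : Γ(ClSub.idealMod (D.comap q), q ⁻¹ᵁ U),
      val (D.comap q) n = (q.app U (val D s) : Γ(Y, q ⁻¹ᵁ U)) := by
  refine exists_val_eq_of_local (D.comap q) _ _ fun y hy => ?_
  obtain ⟨V, W, hfy, hyW, hWle, hVU, hWV⟩ := exists_affine_le q y (q ⁻¹ᵁ U) hy U hy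
  refine ⟨W, hWle, hyW, ?_⟩
  rw [ideal_comap D q V W hWV]
  have h1 := val_mem D V (Groth.Agent.Fdesc.LocGen.res _ hVU s)
  rw [val_res] at h1
  have h2 : (q.appLE V.1 W.1 hWV).hom (ores hVU (val D s)) =
      ores hWle (q.app U (val D s) : Γ(Y, q ⁻¹ᵁ U)) := by
    change (X.presheaf.map (homOfLE hVU).op ≫ q.appLE V.1 W.1 hWV) (val D s) =
        (q.app U ≫ Y.presheaf.map (homOfLE hWle).op) (val D s)
    rw [Scheme.Hom.map_appLE, Scheme.Hom.appLE]
  rw [← h2]
  exact Ideal.mem_map_of_mem _ h1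

theorem val_eq (D : X.IdealSheafData) {U : X.Opens} (s : Sec (ClSub.idealMod D) U) :
    toO (appS (ClSub.idealModι D) U s) = val D s := rfl

/-- The value of `q^* ι ≫ ε` on a pulled back section. -/
theorem map_ι_pbS (D : X.IdealSheafData) (U : X.Opens) (s : Sec (ClSub.idealMod D) U) :
    toO (appS ((Scheme.Modules.pullback q).map (ClSub.idealModι D) ≫ unitHom q) (q ⁻¹ᵁ U)
      (pbS q (ClSub.idealMod D) s)) = (q.app U (val D s) : Γ(Y, q ⁻¹ᵁ U)) := by
  rw [appS_comp, appS_pbS, ← unitHom_pbS q U (val D s), ← val_eq, toO_smul_one]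

/-- The canonical map `q^* (idealMod D) ⟶ idealMod (D.comap q)`. -/
theorem exists_idealHom (D : X.IdealSheafData) :
    ∃ θ : (Scheme.Modules.pullback q).obj (ClSub.idealMod D) ⟶ ClSub.idealMod (D.comap q),
      θ ≫ ClSub.idealModι (D.comap q) = (Scheme.Modules.pullback q).map (ClSub.idealModι D) ≫ unitHom q := by
  refine ⟨kernel.lift (ClSub.toSubscheme (D.comap q))
    ((Scheme.Modules.pullback q).map (ClSub.idealModι D) ≫ unitHom q) ?_, kernel.lift_ι _ _ _⟩
  apply hom_ext_pbS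
  intro U s
  obtain ⟨n, hn⟩ := exists_val_pull q D U s
  have h1 : appS ((Scheme.Modules.pullback q).map (ClSub.idealModι D) ≫ unitHom q) (q ⁻¹ᵁ U)
      (pbS q (ClSub.idealMod D) s) = appS (ClSub.idealModι (D.comap q)) (q ⁻¹ᵁ U) n :=
    (map_ι_pbS q D U s).trans hn.symm
  rw [appS_comp, h1, ← appS_comp]
  have h2 : ClSub.idealModι (D.comap q) ≫ ClSub.toSubscheme (D.comap q) = 0 := kernel.condition _
  rw [h2]
  rfl

theorem gen_of_isGen {M : X.Modules} {U : X.Opens} {s : Γ(M, U)} (h : Groth.Agent.Fdesc.LocGen.IsGen s) :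
    Gen (show Sec M U from s) := by
  intro V hV
  have h1 : (comb (fun _ : Fin 1 => (show Sec M U from s)) hV : (Fin 1 → Γ(X, V)) → Sec M V) =
      (fun a : Γ(X, V) => a • Groth.Agent.Fdesc.LocGen.res M hV s) ∘ (fun a => a 0) := by
    funext a
    exact comb_one _ hV a
  change Function.Bijective (comb (fun _ : Fin 1 => (show Sec M U from s)) hV : (Fin 1 → Γ(X, V)) → Sec M V)
  rw [h1]
  exact (h V hV).comp (Equiv.funUnique (Fin 1) Γ(X, V)).bijective

/-- The canonical map is an isomorphism for effective Cartier divisors. -/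
theorem isIso_of_comp {D : X.IdealSheafData} (hD : BlowUp.IsEffCartierIdeal D)
    (hD' : BlowUp.IsEffCartierIdeal (D.comap q))
    (θ : (Scheme.Modules.pullback q).obj (ClSub.idealMod D) ⟶ ClSub.idealMod (D.comap q))
    (hθ : θ ≫ ClSub.idealModι (D.comap q) =
      (Scheme.Modules.pullback q).map (ClSub.idealModι D) ≫ unitHom q) : IsIso θ := by
  apply isIso_of_bijective
  intro y O hy
  obtain ⟨U, a, hxU, ha⟩ := exists_genOn hD (q y)
  obtain ⟨s, hs⟩ := exists_val_eq D U (a := a) (by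
    have := (ha U le_rfl).2
    rw [Groth.Agent.Fdesc.LocGen.ores_refl] at this
    rw [this]; exact Ideal.mem_span_singleton_self _)
  have gs : Gen (show Sec (ClSub.idealMod D) U.1 from s) := gen_of_isGen (isGen_of_genOn (hs.symm ▸ ha))
  obtain ⟨n, hn⟩ := exists_val_pull q D U.1 s
  have gn : Gen (show Sec (ClSub.idealMod (D.comap q)) (q ⁻¹ᵁ U.1) from n) := gen_of_isGen (isGen_of_genOn (by
    rw [hn, hs]; exact ha.comap q hD'))
  refine ⟨O ⊓ q ⁻¹ᵁ U.1, inf_le_left, ⟨hy, hxU⟩,
    Groth.Agent.Krr.H487.ExtPull.bijective_of_locBasis θ (gs.pbS q) gn (fun _ => ?_) inf_le_right⟩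
  apply val_injective
  refine Eq.trans ?_ hn.symm
  rw [← map_ι_pbS q D U.1 s, ← hθ]
  rfl

/-- `q^* (idealMod D) ≅ idealMod (D.comap q)` compatibly with the inclusions. -/
theorem exists_idealIso {D : X.IdealSheafData} (hD : BlowUp.IsEffCartierIdeal D)
    (hD' : BlowUp.IsEffCartierIdeal (D.comap q)) :
    ∃ θ : (Scheme.Modules.pullback q).obj (ClSub.idealMod D) ≅ ClSub.idealMod (D.comap q),
      θ.hom ≫ ClSub.idealModι (D.comap q) = (Scheme.Modules.pullback q).map (ClSub.idealModι D) ≫ unitHom q := by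
  obtain ⟨θ, hθ⟩ := exists_idealHom q D
  have := isIso_of_comp q hD hD' θ hθ
  exact ⟨asIso θ, hθ⟩

end K911.PullIdeal
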