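import Groth.Agent.LogNCD.K922.LogBasis
import Groth.Agent.LogNCD.K922.Univ

/-!
# The rank of the sheaf of differentials with logarithmic poles

For `f` smooth of relative dimension `N` the number of coordinates of a chart is `N`, and `Ω¹(log D)` is locally free of
rank `N`.
-/

set_option autoImplicit false
universe u
open CategoryTheory CategoryTheory.Limits AlgebraicGeometry TopologicalSpace

namespace K911.Rank

open K922.DSec K922.Coord K922.Chart K922.LogBasis Groth.Agent Groth.Agent.Sga67.LocBasis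

variable {X S : Scheme.{u}} {f : X ⟶ S} {Ω' : X.Modules} {d : OmegaSh.Der f Ω'}

theorem exists_affine_std (f : X ⟶ S) (N : ℕ) [SmoothOfRelativeDimension N f] {O : X.Opens} {x : X} (hx : x ∈ O) :
    ∃ (U : X.affineOpens) (V : S.affineOpens) (e : U.1 ≤ f ⁻¹ᵁ V.1), x ∈ U.1 ∧ U.1 ≤ O ∧
      RingHom.IsStandardSmoothOfRelativeDimension N (f.appLE V.1 U.1 e).hom := by
  obtain ⟨V, hV, U, hU, hxU, e, hs⟩ :=
    SmoothOfRelativeDimension.exists_isStandardSmoothOfRelativeDimension (n := N) (f := f) x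
  obtain ⟨s, hsO, hxs⟩ := hU.exists_basicOpen_le ⟨x, hx⟩ hxU
  have hle : X.basicOpen s ≤ U := X.basicOpen_le s
  refine ⟨⟨X.basicOpen s, hU.basicOpen s⟩, ⟨V, hV⟩, hle.trans e, hxs, hsO, ?_⟩
  have : IsLocalization.Away s Γ(X, X.basicOpen s) := hU.isLocalization_basicOpen s
  have h1 := RingHom.IsStandardSmoothOfRelativeDimension.algebraMap_isLocalizationAway (R := Γ(X, U))
    (Rᵣ := Γ(X, X.basicOpen s)) s
  have h2 := h1.comp hs
  rw [zero_add] at h2
  convert h2 using 1
  rw [← Scheme.Hom.appLE_map f e (homOfLE hle).op]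
  rfl

/-- The number of étale coordinates is the relative dimension. -/
theorem card_coord (hd : AffUniv d) (N : ℕ) [SmoothOfRelativeDimension N f] {U : X.Opens} {σ : Type*}
    [Fintype σ] {v : σ → Γ(X, U)} (hv : IsCoord f U v) {x : X} (hx : x ∈ U) : Fintype.card σ = N := by
  obtain ⟨W, V, e, hxW, hWU, hs⟩ := exists_affine_std f N hx
  have hne : Nonempty W.1 := ⟨⟨x, hxW⟩⟩
  have : Nontrivial Γ(X, W.1) := inferInstance
  let _ := (f.appLE V.1 W.1 e).hom.toAlgebra
  obtain ⟨ε, -⟩ := hd W V e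
  have h1 : Module.rank Γ(X, W.1) (Ω[Γ(X, W.1)⁄Γ(S, V.1)]) = N := by
    have : Algebra.IsStandardSmoothOfRelativeDimension N Γ(S, V.1) Γ(X, W.1) := hs
    exact Algebra.IsStandardSmoothOfRelativeDimension.rank_kaehlerDifferential N
  have b := (hv.isLocBasis hd).basis hWU
  have h2 := rank_eq_card_basis b
  have h3 := ε.rank_eq
  rw [h1, h2] at h3
  exact_mod_cast h3.symm

theorem isFinLocFreeOfRank {r : ℕ} {D : Fin r → X.IdealSheafData} [Smooth f] (N : ℕ) [SmoothOfRelativeDimension N f] (hd : AffUniv d)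
    (hD : LogNCD.IsNCD D f) (Λ : LogNCD.LogMod d D) : FlatMod.IsFinLocFreeOfRank N Λ.L := by
  intro x
  obtain ⟨U, n, c, B, hxU, -⟩ := exists_logChart hd hD Λ (O := ⊤) (x := x) trivial
  have h1 := card_coord hd N c.coord hxU
  rw [Fintype.card_fin] at h1
  subst h1
  exact ⟨U.1, hxU, nonempty_restrict_iso_iff.2 ⟨B.b, B.isLocBasis⟩⟩

end K911.Rank
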