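import Groth.Agent.Picfga.CurveRelDim
import Groth.Agent.S1628
import Groth.Agent.Vanish.K911.Rank
import Groth.Agent.Vanish.K911.DivCls
import Groth.Agent.Krr.H502.KosZero
import Groth.Agent.Dual.H366.ExtQCoh
import Groth.Agent.Sga67.LocBasisOps

/-!
# Smooth irreducible schemes over a field; the exterior powers of `Ω¹(log D)`
-/

set_option autoImplicit false
universe u
open CategoryTheory CategoryTheory.Limits AlgebraicGeometry

namespace K911.Geo

open Groth.Agent Groth.Agent.Fga.PicMon Groth.Agent.Pic13.H11.Cls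

theorem isIntegral_of_smooth {k : Type u} [Field k] {X : Scheme.{u}} (f : X ⟶ Spec (CommRingCat.of k)) [Smooth f]
    [IrreducibleSpace X] : IsIntegral X := by
  have h : ∀ x : X, _root_.IsReduced (X.presheaf.stalk x) := fun x => S1628.isReduced_stalk_of_smooth f x
  have : IsReduced X := isReduced_of_isReduced_stalk X
  exact isIntegral_of_irreducibleSpace_of_isReduced X

theorem smoothOfRelativeDimension {k : Type u} [Field k] {X : Scheme.{u}} (f : X ⟶ Spec (CommRingCat.of k))
    [Smooth f] [IrreducibleSpace X] {n : ℕ} (hn : topologicalKrullDim X = n) : SmoothOfRelativeDimension n f := by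
  have := isIntegral_of_smooth f
  exact Picfga.CurveRelDim.smoothOfRelativeDimension_of_topologicalKrullDim_eq k X f n hn

section Log

variable {k : Type u} [Field k] {X : Scheme.{u}} {f : X ⟶ Spec (CommRingCat.of k)} [Smooth f] {Ω' : X.Modules}
  {d : OmegaSh.Der f Ω'} (hd : OmegaSh.IsUniversal d) {r : ℕ} {D : Fin r → X.IdealSheafData}
  (hD : LogNCD.IsNCD D f) (Λ : LogNCD.LogMod d D)

include hd hD

theorem isFinLocFree : FlatMod.IsFinLocFree Λ.L :=
  K922.LogBasis.isFinLocFree (K922.Univ.affUniv hd) hD Λ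

theorem isFinLocFree_extPow {a : ℕ} {La : X.Modules} (h : ExtPow.IsExtPow a Λ.L La) : FlatMod.IsFinLocFree La :=
  Sga67.LocBasis.isFinLocFree_of_isExtPow (isFinLocFree hd hD Λ) h

/-- The exterior powers above the dimension vanish. -/
theorem isZero_extPow [IrreducibleSpace X] {n : ℕ} (hn : topologicalKrullDim X = n) {a : ℕ} {La : X.Modules}
    (h : ExtPow.IsExtPow a Λ.L La) (hna : n < a) : IsZero La := by
  have := smoothOfRelativeDimension f hn
  exact Krr.H502.KosZero.isZero_of_isExtPow (Rank.isFinLocFreeOfRank n (K922.Univ.affUniv hd) hD Λ) h hna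

end Log

theorem exists_extPows {X : Scheme.{u}} {E : X.Modules} (hE : Coh.IsQCoh E) (a₀ : ℕ) (L₀ : X.Modules)
    (h₀ : ExtPow.IsExtPow a₀ E L₀) :
    ∃ La : ℕ → X.Modules, (∀ a, ExtPow.IsExtPow a E (La a)) ∧ La a₀ = L₀ := by
  classical
  choose L hL using fun a => Dual.H366.ExtQCoh.exists_isExtPow a hE
  refine ⟨fun a => if a = a₀ then L₀ else L a, fun a => ?_, if_pos rfl⟩
  dsimp only
  split_ifs with h
  · rw [h]; exact h₀
  · exact hL a

end K911.Geo
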