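import Groth.Agent.Vanish.K911.CoordBC
import Groth.Agent.LogNCD.K922.Univ
import Groth.Agent.Krr.H487.PullExt
import Groth.Agent.Sga67.TensorOps

/-!
# Base change of sheaves of logarithmic differentials

`exists_iso`: for a cartesian square `g : X' ⟶ X` over `S' ⟶ S` with `X` smooth over `S`, `D` a normal crossing
divisor, `Λ : LogMod d D`, `Λ' : LogMod d' (D.comap g)`: `g^* Λ.L ≅ Λ'.L`, compatibly with the inclusions of the
differentials.  `nonempty_iso_extPow`: the same for exterior powers.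
-/

set_option autoImplicit false
universe u

open CategoryTheory CategoryTheory.Limits AlgebraicGeometry TopologicalSpace Opposite

namespace K911.LogModBC

open Groth.Agent.Sga67.Sec Groth.Agent.Krr.H487.LocBasisPull
open K922.DSec K922.Coord K922.Chart K922.LogBasis K922.Univ
open K911.LogBC K911.CoordBC

variable {X S X' S' : Scheme.{u}} {f : X ⟶ S} {f' : X' ⟶ S'} {g : X' ⟶ X} {b : S' ⟶ S}
  {Ω : X.Modules} {d : OmegaSh.Der f Ω} {Ω' : X'.Modules} {d' : OmegaSh.Der f' Ω'} {r : ℕ}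
  {D : Fin r → X.IdealSheafData}

theorem fac_dvd {U : X.Opens} {n : ℕ} (c : Chart f D U n) (k : Fin n) : fac c k ∣ ∏ i, c.g i := by
  unfold fac
  split_ifs with h
  · obtain ⟨i, hi⟩ := h
    rw [← c.g_some i k hi]
    exact Finset.dvd_prod_of_mem _ (Finset.mem_univ i)
  · exact one_dvd _

theorem fac_bc (sq : IsPullback g f' f b) {U : X.Opens} {n : ℕ} (c : Chart f D U n) (k : Fin n)
    {V' : X'.Opens} (e : V' ≤ g ⁻¹ᵁ U) :
    fac ((chart_bc sq c).restrict e) k = g.appLE U V' e (fac c k) := by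
  have he : ((chart_bc sq c).restrict e).e = c.e := rfl
  by_cases h : ∃ i, c.e i = some k
  · rw [fac, fac, he, if_pos h, if_pos h]
    rfl
  · rw [fac, fac, he, if_neg h, if_neg h]
    exact (map_one (g.appLE U V' e).hom).symm

/-- **Base change of the sheaf of logarithmic differentials.** -/
theorem exists_iso [Smooth f] (sq : IsPullback g f' f b) (hd : OmegaSh.IsUniversal d)
    (hd' : OmegaSh.IsUniversal d') (hD : LogNCD.IsNCD D f) (Λ : LogNCD.LogMod d D)
    (Λ' : LogNCD.LogMod d' (fun i => (D i).comap g)) :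
    ∃ c : (Scheme.Modules.pullback g).obj Λ.L ≅ Λ'.L, ∀ (U : X.Opens) (ω : Sec Ω U),
      appS c.hom (g ⁻¹ᵁ U) (pbS g Λ.L (appS Λ.ι U ω)) =
        appS Λ'.ι (g ⁻¹ᵁ U) (tauS sq.w.symm hd d' U ω) := by
  obtain ⟨c, hc⟩ := exists_comp sq.w.symm hd d' Λ Λ' hD
  have hι := fun U ω => comp_ι hD hc U ω
  have : IsIso c := isIso_comp hι (by
    intro x' O' hx'
    obtain ⟨U, n, ch, B, hxU, -⟩ := exists_logChart (affUniv hd) hD Λ (O := ⊤) (x := g x') trivial
    obtain ⟨V', hxV', hV'⟩ := exists_affine_mem_le (O' ⊓ g ⁻¹ᵁ U.1) x' ⟨hx', hxU⟩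
    have e : V'.1 ≤ g ⁻¹ᵁ U.1 := hV'.trans inf_le_right
    obtain ⟨B'⟩ := exists_logBasis (affUniv hd') Λ' ((chart_bc sq ch).restrict e)
    refine ⟨U.1, V'.1, e, hxV', hV'.trans inf_le_left, Fin n, inferInstance, ch.v, fac ch, ch.g,
      B.b, B'.b, fun W hW i => ch.ideal i W hW, fac_dvd ch, B.isLocBasis, B'.isLocBasis,
      fac_smul B, fun k => ?_⟩
    have := fac_smul B' k
    rw [fac_bc] at this
    exact this)
  exact ⟨asIso c, hι⟩

theorem nonempty_iso [Smooth f] (sq : IsPullback g f' f b) (hd : OmegaSh.IsUniversal d)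
    (hd' : OmegaSh.IsUniversal d') (hD : LogNCD.IsNCD D f) (Λ : LogNCD.LogMod d D)
    (Λ' : LogNCD.LogMod d' (fun i => (D i).comap g)) :
    Nonempty ((Scheme.Modules.pullback g).obj Λ.L ≅ Λ'.L) :=
  let ⟨c, _⟩ := exists_iso sq hd hd' hD Λ Λ'
  ⟨c⟩

/-- Base change of the exterior powers of the sheaf of logarithmic differentials. -/
theorem nonempty_iso_extPow [Smooth f] (sq : IsPullback g f' f b) (hd : OmegaSh.IsUniversal d)
    (hd' : OmegaSh.IsUniversal d') (hD : LogNCD.IsNCD D f) (Λ : LogNCD.LogMod d D)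
    (Λ' : LogNCD.LogMod d' (fun i => (D i).comap g)) {a : ℕ} {La : X.Modules}
    (hLa : ExtPow.IsExtPow a Λ.L La) {La' : X'.Modules} (hLa' : ExtPow.IsExtPow a Λ'.L La') :
    Nonempty ((Scheme.Modules.pullback g).obj La ≅ La') := by
  obtain ⟨c⟩ := nonempty_iso sq hd hd' hD Λ Λ'
  exact Groth.Agent.Sga67.TensorOps.nonempty_iso_of_isExtPow c
    (Groth.Agent.Krr.H487.PullExt.isExtPow_pullback g (isFinLocFree (affUniv hd) hD Λ) hLa) hLa'

end K911.LogModBC
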