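import Groth.Agent.Vanish.K911.DivCls
import Groth.Agent.Krr.H482.PullTens

/-!
# Pull-back of classes of modules

`pullM f : MC X →* MC Y` and `pullU f : (MC X)ˣ →* (MC Y)ˣ` for `f : Y ⟶ X`.
-/

set_option autoImplicit false
universe u
open CategoryTheory CategoryTheory.Limits AlgebraicGeometry

namespace K911.PullM

open scoped Groth.Agent.Dcoh.MonCat

open Groth.Agent Groth.Agent.Fga.PicMon Groth.Agent.Pic13.H11.Cls K911.DivCls

variable {X Y Z : Scheme.{u}} (f : Y ⟶ X)

/-- Pull-back of classes of modules. -/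
noncomputable def pullM : MC X →* MC Y where
  toFun := Quot.lift (fun L => mc ((Scheme.Modules.pullback f).obj L)) fun _ _ ⟨e⟩ =>
    mc_eq ((Scheme.Modules.pullback f).mapIso e)
  map_one' := by
    let _ := Groth.Agent.Dcoh.MonPull.monPull f
    exact mc_eq (Functor.Monoidal.εIso (Scheme.Modules.pullback f)).symm
  map_mul' a b := by
    induction a using MC.ind with | h L => ?_
    induction b using MC.ind with | h M => ?_
    exact mc_eq (Krr.H482.PullTens.pullTensorIso f L M)

theorem pullM_mc (L : X.Modules) : pullM f (mc L) = mc ((Scheme.Modules.pullback f).obj L) := rfl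

/-- Pull-back of units. -/
noncomputable def pullU : (MC X)ˣ →* (MC Y)ˣ := Units.map (pullM f)

theorem pullU_val (u : (MC X)ˣ) : ((pullU f u : (MC Y)ˣ) : MC Y) = pullM f u := rfl

theorem pullU_val_mc {u : (MC X)ˣ} {L : X.Modules} (h : mc L = u) :
    mc ((Scheme.Modules.pullback f).obj L) = pullU f u := by
  rw [pullU_val, ← h, pullM_mc]

theorem pullM_smul (u : (MC X)ˣ) (c : MC X) : pullM f (u • c) = pullU f u • pullM f c := by
  rw [smul_def, smul_def, map_mul, pullU_val]

theorem pullM_comp (g : Z ⟶ Y) (c : MC X) : pullM (g ≫ f) c = pullM g (pullM f c) := by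
  induction c using MC.ind with | h L => ?_
  exact mc_eq ((Scheme.Modules.pullbackComp g f).symm.app L)

theorem pullU_dcl {D : X.IdealSheafData} (hD : BlowUp.IsEffCartierIdeal D)
    (hD' : BlowUp.IsEffCartierIdeal (D.comap f)) : pullU f (dcl hD) = dcl hD' := by
  apply Units.ext
  rw [pullU_val, dcl_val, dcl_val, pullM_mc, mc_eq_iff]
  exact Dix.IdealModCartier.pullback_idealMod f hD hD'

theorem pullU_unit {L : X.Modules} (hL : PicF.IsInvertible L) {L' : Y.Modules} (hL' : PicF.IsInvertible L')
    (e : Nonempty ((Scheme.Modules.pullback f).obj L ≅ L')) : pullU f (unit hL) = unit hL' := by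
  apply Units.ext
  rw [pullU_val, unit_val, unit_val, pullM_mc, mc_eq_iff]
  exact e

end K911.PullM
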