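import Groth.Agent.Surf.K461.SerreLF
import Groth.Agent.Dual.H339.OmegaRank
import Groth.Agent.Dual.H366.ExtQCoh
import Groth.Agent.PerfA.CohSerre
import Groth.Agent.PerfA.QCohEpi
import Groth.Agent.Vanish.K911.Geo
import Groth.Agent.Vanish.K911.Dual

/-!
# Serre duality for a smooth proper irreducible scheme over a field
-/

set_option autoImplicit false
universe u
open CategoryTheory CategoryTheory.Limits AlgebraicGeometry

namespace K911.SerreK

open Groth.Agent

theorem exists_serreD (k : Type u) [Field k] (X : Scheme.{u}) [X.Over (Spec (CommRingCat.of k))]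
    [IsProper (X ↘ Spec (CommRingCat.of k))] [Smooth (X ↘ Spec (CommRingCat.of k))] [IrreducibleSpace X] {n : ℕ}
    (hn : topologicalKrullDim X = n) :
    ∃ ω : X.Modules, Coh.IsCoh ω ∧ Dual.SerreD k X n ω := by
  have hs := Geo.smoothOfRelativeDimension (X ↘ Spec (CommRingCat.of k)) hn
  have hΩ : FlatMod.IsFinLocFree (Omega.sheaf (X ↘ Spec (CommRingCat.of k))) := fun x => by
    obtain ⟨U, hx, he⟩ := Dual.H339.OmegaRank.isFinLocFreeOfRank_omega n (X ↘ Spec (CommRingCat.of k)) x
    exact ⟨U, n, hx, he⟩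
  obtain ⟨W, hW⟩ := Dual.H366.ExtQCoh.exists_isExtPow n (PerfA.QCohEpi.isQCoh_of_isFinLocFree hΩ)
  have hWf : FlatMod.IsFinLocFree W := Sga67.LocBasis.isFinLocFree_of_isExtPow hΩ hW
  refine ⟨W, PerfA.CohSerre.isCoh_of_isFinLocFree hWf, fun F hF p hp => ?_⟩
  have : DCoh.HasSheafHom F := inferInstance
  exact K461.SerreLF.nonempty_dual_equiv k n hW hF (n - p) p (by omega)

end K911.SerreK
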