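import Groth.Agent.Vanish.K911.Ineq
import Groth.Agent.Vanish.K911.SerreK
import Groth.Agent.Sga67.TensorOps

/-!
# The vanishing theorems in characteristic zero from the core inequality in characteristic `p`

`s17113`, `s17112`, `s17105`, `s17106`.
-/

set_option autoImplicit false
universe u
open CategoryTheory CategoryTheory.Limits AlgebraicGeometry

namespace K911.MainZero

open Groth.Agent Groth.Agent.Fga.PicMon Groth.Agent.Pic13.H11.Cls K911.DivCls K911.Transfer K911.PullM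
open K890.Spread K890.Model K890.Generic K890.Fibres K890.Polarized K890.Stage K890.NcdModel

section

variable {X : Scheme.{u}}

theorem unit_pow_mul_prod {L : X.Modules} (hL : PicF.IsInvertible L) {r : ℕ} {D : Fin r → X.IdealSheafData}
    (hE : ∀ j, BlowUp.IsEffCartierIdeal (D j)) {N : ℕ} {α : Fin r → ℕ}
    (hLN : ClSub.IsInverseOf (CohB1.tensorPow L N) (ClSub.idealMod (∏ j, D j ^ α j))) :
    (unit hL : (MC X)ˣ) ^ N * ∏ j, dcl (hE j) ^ α j = 1 := by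
  apply Units.ext
  rw [Units.val_mul, Units.val_pow_eq_pow_val, unit_val, ← mc_tensorPow, ← mc_prod_pow Finset.univ hE,
    Units.val_one]
  exact isInverseOf_iff.1 hLN

theorem subsingleton_of_V {r : ℕ} {D : Fin r → X.IdealSheafData} (hE : ∀ j, BlowUp.IsEffCartierIdeal (D j))
    {L Linv : X.Modules} (hL : PicF.IsInvertible L) (hLinv : ClSub.IsInverseOf Linv L) (s : Finset (Fin r))
    {F : X.Modules} {b : ℕ} (h : V b (((unit hL)⁻¹ * ∏ j ∈ s, dcl (hE j) : (MC X)ˣ) • mc F)) :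
    Subsingleton (Coh.HH X (CohB1.tensorMod (CohB1.tensorMod F (ClSub.idealMod (∏ j ∈ s, D j))) Linv) b) := by
  rw [← V_mc, mc_tensor, mc_tensor, mc_prod s hE, unit_inv hL hLinv]
  rw [smul_def, Units.val_mul] at h
  convert h using 1
  rw [mul_assoc, mul_comm]
  congr 1
  rw [mul_comm]

theorem subsingleton_of_V' {L Linv : X.Modules} (hL : PicF.IsInvertible L) (hLinv : ClSub.IsInverseOf Linv L)
    {F : X.Modules} {b : ℕ} (h : V b (((unit hL)⁻¹ : (MC X)ˣ) • mc F)) :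
    Subsingleton (Coh.HH X (CohB1.tensorMod F Linv) b) := by
  rw [← V_mc, mc_tensor, unit_inv hL hLinv]
  rw [smul_def] at h
  convert h using 1
  rw [mul_comm]

end

variable (hC : CoreP.{u}) (k : Type u) [Field k] [IsAlgClosed k] [CharZero k]
  (X : Scheme.{u}) [X.Over (Spec (CommRingCat.of k))] [IsProper (X ↘ Spec (CommRingCat.of k))]
  [Smooth (X ↘ Spec (CommRingCat.of k))] [IrreducibleSpace X] (n : ℕ) (hn : topologicalKrullDim X = n)

include hC hn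

theorem s17113
    (H : X.Modules) (hH : CohB1.IsAmple H)
    (L Linv : X.Modules) (hL : PicF.IsInvertible L) (hLinv : ClSub.IsInverseOf Linv L)
    (N : ℕ) (hN : 1 ≤ N) {r : ℕ} (D : Fin r → X.IdealSheafData) (hD : LogNCD.IsNCD D (X ↘ Spec (CommRingCat.of k)))
    (cls : Fin r → Fin 3) (α : Fin r → ℕ) (hα : ∀ j, cls j = 0 → 0 < α j ∧ α j < N) (hα' : ∀ j, cls j ≠ 0 → α j = 0)
    (hLN : ClSub.IsInverseOf (CohB1.tensorPow L N) (ClSub.idealMod (∏ j, D j ^ α j)))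
    {Ω' : X.Modules} (d : OmegaSh.Der (X ↘ Spec (CommRingCat.of k)) Ω') (hd : OmegaSh.IsUniversal d) (Λ : LogNCD.LogMod d D) (a : ℕ) (La : X.Modules) (hLa : ExtPow.IsExtPow a Λ.L La)
    (b : ℕ)
    (hab : (∃ (c : ℕ) (β : Fin r → ℕ), (∀ j, (cls j = 1 → β j = 0) ∧ (cls j ≠ 1 → 1 ≤ β j)) ∧
        (∀ (F : X.Modules), Coh.IsCoh F → ∀ q : ℕ, c < q → ∃ ν₀ : ℕ, 0 < ν₀ ∧ ∀ ν : ℕ, 0 < ν → ν₀ ∣ ν →
        ∀ M : X.Modules, ClSub.IsInverseOf M (ClSub.idealMod (∏ j, D j ^ (ν * β j))) →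
          Subsingleton (Coh.HH X (CohB1.tensorMod F M) q)) ∧ a + b + c < n) ∨
      (∃ (c : ℕ) (β : Fin r → ℕ), (∀ j, (cls j = 2 → β j = 0) ∧ (cls j ≠ 2 → 1 ≤ β j)) ∧
        (∀ (F : X.Modules), Coh.IsCoh F → ∀ q : ℕ, c < q → ∃ ν₀ : ℕ, 0 < ν₀ ∧ ∀ ν : ℕ, 0 < ν → ν₀ ∣ ν →
        ∀ M : X.Modules, ClSub.IsInverseOf M (ClSub.idealMod (∏ j, D j ^ (ν * β j))) →
          Subsingleton (Coh.HH X (CohB1.tensorMod F M) q)) ∧ n + c < a + b)) :
    Subsingleton (Coh.HH X (CohB1.tensorMod (CohB1.tensorMod La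
      (ClSub.idealMod (∏ j ∈ Finset.univ.filter (fun j => cls j = 2), D j))) Linv) b) := by
  have hE := K911.Ncd.isEff_of_isNCD hD
  have hΛ := Geo.isFinLocFree hd hD Λ
  obtain ⟨Lx, hLx, rfl⟩ := Geo.exists_extPows (PerfA.QCohEpi.isQCoh_of_isFinLocFree hΛ) a La hLa
  have hf : ∀ a, FlatMod.IsFinLocFree (Lx a) := fun a => Geo.isFinLocFree_extPow hd hD Λ (hLx a)
  have hc : ∀ a, Coh.IsCoh (Lx a) := fun a => PerfA.CohSerre.isCoh_of_isFinLocFree (hf a)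
  have hI := ineq_zero hC hn hH hD hd Λ hLx hE hL hN cls α hα hα' (unit_pow_mul_prod hL hE hLN)
  refine subsingleton_of_V hE hL hLinv _ ?_
  rcases hab with ⟨c, β, hβ, hcd, h⟩ | ⟨c, β, hβ, hcd, h⟩
  · obtain ⟨ω, hω, sd⟩ := SerreK.exists_serreD k X hn
    have : IsLocallyNoetherian X := LocallyOfFiniteType.isLocallyNoetherian (X ↘ Spec (CommRingCat.of k))
    exact Cd.cd_low k hω sd hf hc hE hI (fun j => (hβ j).1) hcd h
  · exact Cd.cd_high k hc (fun a' ha' => Geo.isZero_extPow hd hD Λ hn (hLx a') ha') hE hI (fun j => (hβ j).1)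
      hcd h

theorem V_of_cd
    (H : X.Modules) (hH : CohB1.IsAmple H)
    (L : X.Modules) (hL : PicF.IsInvertible L)
    (N : ℕ) (hN : 1 ≤ N) {r : ℕ} (D : Fin r → X.IdealSheafData) (hD : LogNCD.IsNCD D (X ↘ Spec (CommRingCat.of k)))
    (α : Fin r → ℕ) (hα : ∀ j, 0 < α j ∧ α j < N)
    (hLN : ClSub.IsInverseOf (CohB1.tensorPow L N) (ClSub.idealMod (∏ j, D j ^ α j)))
    {Ω' : X.Modules} (d : OmegaSh.Der (X ↘ Spec (CommRingCat.of k)) Ω') (hd : OmegaSh.IsUniversal d) (Λ : LogNCD.LogMod d D) (a : ℕ) (La : X.Modules) (hLa : ExtPow.IsExtPow a Λ.L La)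
    (c : ℕ) (β : Fin r → ℕ)
    (hcd : Cd.CdLE D β c) (b : ℕ) (hab : a + b + c < n ∨ n + c < a + b) :
    V b (((unit hL)⁻¹ : (MC X)ˣ) • mc La) := by
  have hE := K911.Ncd.isEff_of_isNCD hD
  have hΛ := Geo.isFinLocFree hd hD Λ
  obtain ⟨Lx, hLx, rfl⟩ := Geo.exists_extPows (PerfA.QCohEpi.isQCoh_of_isFinLocFree hΛ) a La hLa
  have hf : ∀ a, FlatMod.IsFinLocFree (Lx a) := fun a => Geo.isFinLocFree_extPow hd hD Λ (hLx a)
  have hc : ∀ a, Coh.IsCoh (Lx a) := fun a => PerfA.CohSerre.isCoh_of_isFinLocFree (hf a)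
  have hI := ineq_zero hC hn hH hD hd Λ hLx hE hL hN (fun _ => 0) α (fun j _ => hα j)
    (fun j hj => absurd rfl hj) (unit_pow_mul_prod hL hE hLN)
  have e : Finset.univ.filter (fun _ : Fin r => (0 : Fin 3) = 2) = ∅ :=
    Finset.filter_false_of_mem fun _ _ => by decide
  rcases hab with h | h
  · obtain ⟨ω, hω, sd⟩ := SerreK.exists_serreD k X hn
    have : IsLocallyNoetherian X := LocallyOfFiniteType.isLocallyNoetherian (X ↘ Spec (CommRingCat.of k))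
    have := Cd.cd_low k hω sd hf hc hE hI (fun j hj => absurd hj (by decide)) hcd h
    rw [e, Finset.prod_empty, mul_one] at this
    exact this
  · have := Cd.cd_high k hc (fun a' ha' => Geo.isZero_extPow hd hD Λ hn (hLx a') ha') hE hI
      (fun j hj => absurd hj (by decide)) hcd h
    rw [e, Finset.prod_empty, mul_one] at this
    exact this

theorem s17112
    (H : X.Modules) (hH : CohB1.IsAmple H)
    (L Linv : X.Modules) (hL : PicF.IsInvertible L) (hLinv : ClSub.IsInverseOf Linv L)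
    (N : ℕ) (hN : 1 ≤ N) {r : ℕ} (D : Fin r → X.IdealSheafData) (hD : LogNCD.IsNCD D (X ↘ Spec (CommRingCat.of k)))
    (α : Fin r → ℕ) (hα : ∀ j, 0 < α j ∧ α j < N)
    (hLN : ClSub.IsInverseOf (CohB1.tensorPow L N) (ClSub.idealMod (∏ j, D j ^ α j)))
    {Ω' : X.Modules} (d : OmegaSh.Der (X ↘ Spec (CommRingCat.of k)) Ω') (hd : OmegaSh.IsUniversal d) (Λ : LogNCD.LogMod d D) (a : ℕ) (La : X.Modules) (hLa : ExtPow.IsExtPow a Λ.L La)
    (c : ℕ) (β : Fin r → ℕ)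
    (hcd : (∀ (F : X.Modules), Coh.IsCoh F → ∀ q : ℕ, c < q → ∃ ν₀ : ℕ, 0 < ν₀ ∧ ∀ ν : ℕ, 0 < ν → ν₀ ∣ ν →
        ∀ M : X.Modules, ClSub.IsInverseOf M (ClSub.idealMod (∏ j, D j ^ (ν * β j))) →
          Subsingleton (Coh.HH X (CohB1.tensorMod F M) q)))
    (b : ℕ) (hab : a + b + c < n ∨ n + c < a + b) :
    Subsingleton (Coh.HH X (CohB1.tensorMod La Linv) b) :=
  subsingleton_of_V' hL hLinv (V_of_cd hC k X n hn H hH L hL N hN D hD α hα hLN d hd Λ a La hLa c β hcd b hab)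

theorem s17105
    (H : X.Modules) (hH : CohB1.IsAmple H)
    (L Linv : X.Modules) (hL : PicF.IsInvertible L) (hLinv : ClSub.IsInverseOf Linv L)
    (N : ℕ) (hN : 1 ≤ N) {r : ℕ} (D : Fin r → X.IdealSheafData) (hD : LogNCD.IsNCD D (X ↘ Spec (CommRingCat.of k)))
    (α : Fin r → ℕ) (hα : ∀ j, 0 < α j ∧ α j < N)
    (hLN : ClSub.IsInverseOf (CohB1.tensorPow L N) (ClSub.idealMod (∏ j, D j ^ α j)))
    (μ : Fin r → ℕ) (A : X.Modules) (hA : CohB1.IsAmple A)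
    (hAB : ClSub.IsInverseOf A (ClSub.idealMod (∏ j, D j ^ μ j)))
    (b : ℕ) (hb : b < n) :
    Subsingleton (Coh.HH X Linv b) := by
  obtain ⟨Ω', d, hd, Λ, La, hLa, hLc⟩ := exists_logPows (X ↘ Spec (CommRingCat.of k)) hD
  have h1 := V_of_cd hC k X n hn H hH L hL N hN D hD α hα hLN d hd Λ 0 (La 0) (hLa 0) 0 μ
    (Akn.cdLE_of_ample k (K911.Ncd.isEff_of_isNCD hD) hA hAB) b (Or.inl (by omega))
  have h2 : mc (La 0) = 1 := by
    rw [← mc_one]
    exact mc_eq (Classical.choice (Sga67.TensorOps.nonempty_iso_of_isExtPow (Iso.refl _) (hLa 0)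
      (Sga67.TensorOps.isExtPow_zero Λ.L)))
  rw [h2, smul_def, mul_one, ← unit_inv hL hLinv] at h1
  exact h1

/-- The logarithmic Akizuki-Kodaira-Nakano theorem in characteristic zero. -/
theorem akn_zero
    (L : X.Modules) (hL : CohB1.IsAmple L)
    {Ω' : X.Modules} (d : OmegaSh.Der (X ↘ Spec (CommRingCat.of k)) Ω') (hd : OmegaSh.IsUniversal d)
    {r : ℕ} (T : Fin r → X.IdealSheafData) (hT : LogNCD.IsNCD T (X ↘ Spec (CommRingCat.of k))) (Λ : LogNCD.LogMod d T)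
    (hE : ∀ j, BlowUp.IsEffCartierIdeal (T j))
    (s : Finset (Fin r)) (a : ℕ) (La : X.Modules) (hLa : ExtPow.IsExtPow a Λ.L La)
    (b : ℕ) (hab : a + b < n) :
    V b (((unit hL.1)⁻¹ * ∏ j ∈ s, dcl (hE j) : (MC X)ˣ) • mc La) := by
  obtain ⟨S₀, hS, X₀, f₀, p, H₀, D₀, sq, hprop, hsm, hamp, heL, hD₀, hncd⟩ :=
    exists_smooth_ample_ncd_model (X ↘ Spec (CommRingCat.of k)) hL T hT
  obtain rfl : (fun j => (D₀ j).comap p) = T := funext hD₀
  obtain ⟨Ω₀, d₀, hd₀, Λ₀, La₀, hLa₀, hLc⟩ := exists_logPows f₀ hncd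
  have hE₀ : ∀ j, BlowUp.IsEffCartierIdeal (D₀ j) := K911.Ncd.isEff_of_isNCD hncd
  let u : (MC X₀)ˣ := (unit hamp.1)⁻¹ * ∏ j ∈ s, dcl (hE₀ j)
  let c : Unit → MC X₀ := fun _ => u • mc (La₀ a)
  have hc : ∀ i, Co (c i) := fun i => Co.smul (show Co (mc (La₀ a)) from hLc a) _
  obtain ⟨ℓ, iℓ, κ, _, _, _, X', _, q, Xl, g, i, Dl, φ, hlt, Hq, _, _, _, hn', _, hi, hDl, hncd', hflat, hh,
    -⟩ := exists_good hn hS sq hncd c hc (map_one (pullU p)) (a + b)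
  obtain ⟨Ω₁, d', hd', Λ', La', hLa', hLc'⟩ := exists_logPows (X' ↘ Spec (CommRingCat.of κ)) hncd'
  have hE' : ∀ j, BlowUp.IsEffCartierIdeal ((D₀ j).comap q) := K911.Ncd.isEff_of_isNCD hncd'
  have hamp' := isAmple_bc hamp _ Hq
  have core := coreFor hC ℓ κ X' _ hamp' Xl g i hi _ hncd' Dl hDl hflat d' hd' Λ' La' hLa' hE'
  obtain ⟨ω, hω, sd⟩ := SerreK.exists_serreD κ X' hn'
  have : IsLocallyNoetherian X' := LocallyOfFiniteType.isLocallyNoetherian (X' ↘ Spec (CommRingCat.of κ))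
  have h1 := Akn.akn_p κ iℓ.out hω sd (fun a => Geo.isFinLocFree_extPow hd' hncd' Λ' (hLa' a)) hLc' core hamp' s
    hab (by omega)
  have h2 : pullM q (u • mc (La₀ a)) =
      (((unit hamp'.1)⁻¹ * ∏ j ∈ s, dcl (hE' j) : (MC X')ˣ) • mc (La' a)) := by
    rw [pullM_smul, pullM_mc, mc_eq (Classical.choice
      (LogModBC.nonempty_iso_extPow Hq hd₀ hd' hncd Λ₀ Λ' (hLa₀ a) (hLa' a)))]
    simp only [u, map_mul, map_inv, map_prod]
    rw [pullU_unit q hamp.1 hamp'.1 ⟨Iso.refl _⟩]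
    simp only [fun j => pullU_dcl q (hE₀ j) (hE' j)]
  have h3 : pullM p (u • mc (La₀ a)) =
      (((unit hL.1)⁻¹ * ∏ j ∈ s, dcl (hE j) : (MC X)ˣ) • mc La) := by
    rw [pullM_smul, pullM_mc, mc_eq (Classical.choice
      (LogModBC.nonempty_iso_extPow sq hd₀ hd hncd Λ₀ Λ (hLa₀ a) hLa))]
    simp only [u, map_mul, map_inv, map_prod]
    rw [pullU_unit p hamp.1 hL.1 heL]
    simp only [fun j => pullU_dcl p (hE₀ j) (hE j)]
  have h4 := hh () b
  change h κ b (pullM q (u • mc (La₀ a))) = h k b (pullM p (u • mc (La₀ a))) at h4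
  rw [h2, h3, h_eq_zero κ h1] at h4
  refine V_of_h k (Co.smul (show Co (mc La) from ?_) _) b h4.symm
  exact PerfA.CohSerre.isCoh_of_isFinLocFree (Geo.isFinLocFree_extPow hd hT Λ hLa)

theorem s17106
    (L Linv : X.Modules) (hL : CohB1.IsAmple L) (hLinv : ClSub.IsInverseOf Linv L)
    {Ω' : X.Modules} (d : OmegaSh.Der (X ↘ Spec (CommRingCat.of k)) Ω') (hd : OmegaSh.IsUniversal d)
    {r : ℕ} (T : Fin r → X.IdealSheafData) (hT : LogNCD.IsNCD T (X ↘ Spec (CommRingCat.of k))) (Λ : LogNCD.LogMod d T)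
    (s : Finset (Fin r)) (a : ℕ) (La : X.Modules) (hLa : ExtPow.IsExtPow a Λ.L La)
    (b : ℕ) (hab : a + b < n) :
    Subsingleton (Coh.HH X (CohB1.tensorMod (CohB1.tensorMod La (ClSub.idealMod (∏ j ∈ s, T j))) Linv) b) := by
  have hE := K911.Ncd.isEff_of_isNCD hT
  exact subsingleton_of_V hE hL.1 hLinv s (akn_zero hC k X n hn L hL d hd T hT Λ hE s a La hLa b hab)

end K911.MainZero
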