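import Groth.Agent.Vanish.K911.Akn

/-!
# The vanishing theorem under the condition that `L^ν(-D)` is ample for `ν ≫ 0`
-/

set_option autoImplicit false
universe u
open CategoryTheory CategoryTheory.Limits AlgebraicGeometry

namespace K911.Star

open Groth.Agent Groth.Agent.Fga.PicMon Groth.Agent.Pic13.H11.Cls K911.DivCls K911.Akn

/-- Frobenius steps with arbitrary digits. -/
theorem frob_iter {P : Type*} [CommGroup P] {r : ℕ} (δ : Fin r → P) (p : ℕ) (hp : 0 < p)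
    (S : P → ℕ) (core : ∀ (c c' : P) (e : Fin r → ℕ), (∀ j, e j ≤ p - 1) →
      c' * ∏ j, δ j ^ e j = c ^ p → S c ≤ S c') (c : P) (t : ℕ) (E : Fin r → ℕ) (hE : ∀ j, E j < p ^ t) :
    S c ≤ S (c ^ p ^ t * (∏ j, δ j ^ E j)⁻¹) := by
  induction t generalizing E with
  | zero =>
    have h0 : ∀ j, E j = 0 := fun j => by have := hE j; rw [pow_zero] at this; omega
    have h1 : ∏ j, δ j ^ E j = 1 := Finset.prod_eq_one fun j _ => by rw [h0, pow_zero]
    rw [h1, pow_zero, pow_one, inv_one, mul_one]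
  | succ t ih =>
    refine (ih (fun j => E j / p) fun j => ?_).trans ?_
    · have h1 := hE j
      rw [pow_succ] at h1
      exact Nat.div_lt_of_lt_mul (by rw [mul_comm]; exact h1)
    · refine core _ _ (fun j => E j % p) (fun j => ?_) ?_
      · have := Nat.mod_lt (E j) hp
        omega
      · have h1 : ∏ j, δ j ^ E j = (∏ j, δ j ^ (E j / p)) ^ p * ∏ j, δ j ^ (E j % p) := by
          rw [← Finset.prod_pow, ← Finset.prod_mul_distrib]
          refine Finset.prod_congr rfl fun j _ => ?_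
          rw [← pow_mul, ← pow_add, Nat.div_add_mod']
        rw [h1, mul_pow, inv_pow, ← pow_mul, ← pow_succ, mul_inv, mul_assoc, mul_assoc, inv_mul_cancel, mul_one]

variable (k : Type u) [Field k] {X : Scheme.{u}} [X.Over (Spec (CommRingCat.of k))]
  [IsProper (X ↘ Spec (CommRingCat.of k))] [IsLocallyNoetherian X]

theorem star {p : ℕ} (hp : p.Prime) {n : ℕ} {ω : X.Modules} (hω : Coh.IsCoh ω) (sd : Dual.SerreD k X n ω)
    {La : ℕ → X.Modules} (hf : ∀ a, FlatMod.IsFinLocFree (La a)) (hc : ∀ a, Coh.IsCoh (La a))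
    {r : ℕ} {δ : Fin r → (MC X)ˣ} (hC : CoreFor p k La δ) {l : (MC X)ˣ} (α : Fin r → ℕ)
    {N' : ℕ} (hN' : 0 < N') (hα : ∀ j, α j < N') {A : X.Modules} (hA : CohB1.IsAmple A)
    (hAl : unit hA.1 = l ^ N' * ∏ j, δ j ^ α j)
    {a b : ℕ} (hab : a + b < n) (habp : a + b < p) :
    V b (l⁻¹ • mc (La a)) := by
  choose P₀ h0 using fun ρ : ℕ => exists_serre k hA (fun a => l ^ ρ • mc ((DCoh.sheafHom (La a)).obj ω))
    (fun a => Co.smul (show Co (mc ((DCoh.sheafHom (La a)).obj ω)) from Dual.isCoh_sheafHom (hc a) hω) _) (a + b)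
  obtain ⟨t, ht⟩ : ∃ t, (∑ ρ ∈ Finset.range N', P₀ ρ + 1) * N' ≤ p ^ t :=
    ⟨_, (Nat.lt_pow_self hp.one_lt).le⟩
  obtain ⟨M, hM⟩ : ∃ M, p ^ t / N' = M := ⟨_, rfl⟩
  obtain ⟨ρ, hρ⟩ : ∃ ρ, p ^ t % N' = ρ := ⟨_, rfl⟩
  have hdm : M * N' + ρ = p ^ t := by rw [← hM, ← hρ, Nat.div_add_mod']
  have hρN : ρ < N' := hρ ▸ Nat.mod_lt _ hN'
  have hM0 : ∑ ρ ∈ Finset.range N', P₀ ρ + 1 ≤ M := hM ▸ (Nat.le_div_iff_mul_le hN').2 ht
  have hM1 : P₀ ρ ≤ M := (Finset.single_le_sum (f := P₀) (fun _ _ => Nat.zero_le _)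
    (Finset.mem_range.2 hρN)).trans (by omega)
  have h1 := frob_iter δ p hp.pos (S k La (a + b)) (hC (a + b) habp) l⁻¹ t (fun j => M * α j) (fun j => by
    have h2 : M * α j < M * N' := Nat.mul_lt_mul_of_pos_left (hα j) (by omega)
    omega)
  refine V_of_S_le k La a b (hc a) h1 fun a' b' hab' => ?_
  refine Dual.V_dual k sd (hf a') _ (by omega) ?_
  have h3 := h0 ρ M hM1 a' (by omega) (n - b') (by omega)
  rw [smul_smul] at h3
  convert h3 using 2
  rw [hAl, ← hdm, mul_inv, inv_inv, inv_pow, inv_inv, mul_pow, ← pow_mul, pow_add, mul_comm N' M,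
    ← Finset.prod_pow]
  simp only [← pow_mul, mul_comm M]
  rw [mul_right_comm]

end K911.Star
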