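import Groth.Agent.Vanish.K911.Transfer
import Groth.Agent.Vanish.K911.SerreK
import Groth.Agent.Vanish.K911.Star

/-!
# The vanishing theorem in characteristic `p` under the condition that `L^ν(-D)` is ample for `ν ≫ 0`
-/

set_option autoImplicit false
universe u
open CategoryTheory CategoryTheory.Limits AlgebraicGeometry

namespace K911.MainP

open Groth.Agent Groth.Agent.Fga.PicMon Groth.Agent.Pic13.H11.Cls K911.DivCls K911.Transfer

theorem s17121 (hC : CoreP.{u}) (p : ℕ) [Fact p.Prime]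
    (k : Type u) [Field k] [CharP k p] [PerfectRing k p]
    (X : Scheme.{u}) [X.Over (Spec (CommRingCat.of k))] [IsProper (X ↘ Spec (CommRingCat.of k))]
    [Smooth (X ↘ Spec (CommRingCat.of k))] [IrreducibleSpace X] (n : ℕ) (hn : topologicalKrullDim X = n) (hnp : n ≤ p)
    (Xl : Scheme.{u}) (g : Xl ⟶ Spec (CommRingCat.of (FrobAlg.W2 p k))) [Flat g] (i : X ⟶ Xl)
    (hlift : IsPullback i (X ↘ Spec (CommRingCat.of k)) g (Spec.map (CommRingCat.ofHom (FrobAlg.res p k))))
    {r : ℕ} (D : Fin r → X.IdealSheafData) (hD : LogNCD.IsNCD D (X ↘ Spec (CommRingCat.of k))) (α : Fin r → ℕ)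
    (Dl : Fin r → Xl.IdealSheafData) (hDl : ∀ j, (Dl j).comap i = D j) (hDlf : ∀ j, Flat ((Dl j).subschemeι ≫ g))
    (L Linv : X.Modules) (hL : PicF.IsInvertible L) (hLinv : ClSub.IsInverseOf Linv L)
    (ν₀ : ℕ) (hamp : ∀ ν : ℕ, CohB1.IsAmple (CohB1.tensorMod (CohB1.tensorPow L (ν₀ + ν)) (ClSub.idealMod (∏ j, D j ^ α j))))
    {Ω' : X.Modules} (d : OmegaSh.Der (X ↘ Spec (CommRingCat.of k)) Ω') (hd : OmegaSh.IsUniversal d) (Λ : LogNCD.LogMod d D) (a : ℕ) (La : X.Modules) (hLa : ExtPow.IsExtPow a Λ.L La)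
    (b : ℕ) (hab : a + b < n) :
    Subsingleton (Coh.HH X (CohB1.tensorMod La Linv) b) := by
  have hE := K911.Ncd.isEff_of_isNCD hD
  have hΛ := Geo.isFinLocFree hd hD Λ
  obtain ⟨Lx, hLx, rfl⟩ := Geo.exists_extPows (PerfA.QCohEpi.isQCoh_of_isFinLocFree hΛ) a La hLa
  have hf : ∀ a, FlatMod.IsFinLocFree (Lx a) := fun a => Geo.isFinLocFree_extPow hd hD Λ (hLx a)
  have hc : ∀ a, Coh.IsCoh (Lx a) := fun a => PerfA.CohSerre.isCoh_of_isFinLocFree (hf a)
  have : IsLocallyNoetherian X := LocallyOfFiniteType.isLocallyNoetherian (X ↘ Spec (CommRingCat.of k))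
  obtain ⟨ω, hω, sd⟩ := SerreK.exists_serreD k X hn
  have core := coreFor hC p k X _ (hamp 0) Xl g i hlift D hD Dl hDl hDlf d hd Λ Lx hLx hE
  have hA := hamp (∑ j, α j + 1)
  have h1 := Star.star k (Fact.out : p.Prime) hω sd hf hc core (l := unit hL) α (N' := ν₀ + (∑ j, α j + 1))
    (by omega) (fun j => by
      have := Finset.single_le_sum (f := α) (fun _ _ => Nat.zero_le _) (Finset.mem_univ j)
      omega) hA (by
      apply Units.ext
      rw [Units.val_mul, Units.val_pow_eq_pow_val, unit_val, unit_val, mc_tensor, mc_tensorPow,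
        mc_prod_pow Finset.univ hE]) hab (by omega)
  rw [← V_mc, mc_tensor, unit_inv hL hLinv, mul_comm]
  rw [smul_def] at h1
  exact h1

end K911.MainP
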