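import Groth.Agent.Vanish.K911.Spread104

/-!
# The surjectivity theorem in characteristic `p` without the reduced divisor `C`
-/

set_option autoImplicit false
universe u
open CategoryTheory CategoryTheory.Limits AlgebraicGeometry

namespace K911.Row125

open Groth.Agent

theorem s17125 (hS : Spread104.SurjP.{u}) (p : ℕ) [Fact p.Prime]
    (k : Type u) [Field k] [IsAlgClosed k] [CharP k p]
    (X : Scheme.{u}) [X.Over (Spec (CommRingCat.of k))] [IsProper (X ↘ Spec (CommRingCat.of k))]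
    [Smooth (X ↘ Spec (CommRingCat.of k))] [IrreducibleSpace X] (n : ℕ) (hn : topologicalKrullDim X = n) (hnp : n ≤ p)
    (H : X.Modules) (hH : CohB1.IsAmple H)
    (Xl : Scheme.{u}) (g : Xl ⟶ Spec (CommRingCat.of (FrobAlg.W2 p k))) [Flat g] (i : X ⟶ Xl)
    (hlift : IsPullback i (X ↘ Spec (CommRingCat.of k)) g (Spec.map (CommRingCat.ofHom (FrobAlg.res p k))))
    {r : ℕ} (D : Fin r → X.IdealSheafData) (hD : LogNCD.IsNCD D (X ↘ Spec (CommRingCat.of k)))
    (Dl : Fin r → Xl.IdealSheafData) (hDl : ∀ j, (Dl j).comap i = D j) (hDlf : ∀ j, Flat ((Dl j).subschemeι ≫ g))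
    (L Linv : X.Modules) (hL : PicF.IsInvertible L) (hLinv : ClSub.IsInverseOf Linv L)
    (N : ℕ) (hN : 1 ≤ N) (hNp : Nat.Coprime N p) (α : Fin r → ℕ) (hα : ∀ j, 0 < α j ∧ α j < N)
    (hLN : ClSub.IsInverseOf (CohB1.tensorPow L N) (ClSub.idealMod (∏ j, D j ^ α j)))
    (μ : Fin r → ℕ) (hμ : ∀ (j : Fin r) (c : ℕ), c < μ j → ¬ p ∣ α j + c * N) (b : ℕ) :
    Function.Surjective (Sheaf.H.map ((SheafOfModules.toSheaf X.ringCatSheaf).map
      (LogNCD.inclTwist Linv (∏ j, D j ^ μ j))) b) := by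
  obtain ⟨κ, hκ⟩ := Coker.exists_incl (K := (∏ j ∈ (∅ : Finset (Fin r)), D j) * ∏ j, D j ^ μ j)
    (I := ∏ j ∈ (∅ : Finset (Fin r)), D j) (fun U => by
      rw [Scheme.IdealSheafData.ideal_mul]
      exact Ideal.mul_le_left (I := (∏ j ∈ (∅ : Finset (Fin r)), D j).ideal U) (J := (∏ j, D j ^ μ j).ideal U))
  exact One.surjective_inclTwist Finset.prod_empty hκ (hS p k X n hn hnp H hH Xl g i hlift D hD Dl hDl hDlf L Linv hL
    hLinv N hN hNp ∅ α (fun j _ => hα j) (fun j hj => absurd hj (Finset.notMem_empty j)) hLN μ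
    (fun j hj => absurd hj (Finset.notMem_empty j)) (fun j c _ hc => hμ j c hc) κ hκ b)

end K911.Row125
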