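import Mathlib.Algebra.BigOperators.Group.Finset.Basic
import Mathlib.Algebra.Order.BigOperators.Group.Finset
import Mathlib.FieldTheory.Finite.Basic
import Mathlib.Data.Int.ModEq
import Mathlib.Tactic.Linarith
import Mathlib.Tactic.Ring
import Mathlib.Tactic.LinearCombination

/-!
# The group theoretic part of the Esnault–Viehweg inequalities in characteristic `p`

`P` is a commutative group (the Picard group), `δ j` the class of `O(-D_j)`, `ℓ` the class of `L`, with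
`L^N = O(∑ α_j D_j)`; `S : P → ℕ` satisfies the core inequality `S c ≤ S (c^p (∑ e_j D_j))` for `0 ≤ e_j ≤ p - 1`.
Then `S (L⁻¹(-B)) ≤ S (L⁻¹(-B)(∑ ν_j D_j))` for small `ν`.
-/

set_option autoImplicit false

namespace K911.PicCalc

open Finset

variable {P : Type*} [CommGroup P] {r : ℕ}

/-- The class of `L^{-i}(∑ ⌊i α_j / N⌋ D_j) (-B)`. -/
def E (δ : Fin r → P) (ℓ : P) (N : ℕ) (α : Fin r → ℕ) (B : P) (i : ℕ) : P :=
  (ℓ ^ i)⁻¹ * (∏ j, δ j ^ (i * α j / N))⁻¹ * B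

theorem E_add (δ : Fin r → P) (ℓ : P) (N : ℕ) (hN : 0 < N) (α : Fin r → ℕ) (B : P)
    (hℓ : ℓ ^ N * ∏ j, δ j ^ α j = 1) (i : ℕ) : E δ ℓ N α B (i + N) = E δ ℓ N α B i := by
  unfold E
  have h1 : ∀ j, (i + N) * α j / N = i * α j / N + α j := fun j => by
    rw [add_mul, Nat.add_mul_div_left _ _ hN]
  have h2 : ∏ j, δ j ^ ((i + N) * α j / N) = (∏ j, δ j ^ (i * α j / N)) * ∏ j, δ j ^ α j := by
    rw [← Finset.prod_mul_distrib]
    exact Finset.prod_congr rfl fun j _ => by rw [h1, pow_add]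
  rw [h2, pow_add, mul_inv, mul_inv]
  have h3 : (ℓ ^ N)⁻¹ * (∏ j, δ j ^ α j)⁻¹ = 1 := by rw [← mul_inv, hℓ, inv_one]
  calc (ℓ ^ i)⁻¹ * (ℓ ^ N)⁻¹ * ((∏ j, δ j ^ (i * α j / N))⁻¹ * (∏ j, δ j ^ α j)⁻¹) * B
      = (ℓ ^ i)⁻¹ * (∏ j, δ j ^ (i * α j / N))⁻¹ * B * ((ℓ ^ N)⁻¹ * (∏ j, δ j ^ α j)⁻¹) := by
        simp only [mul_comm, mul_left_comm, mul_assoc]
    _ = _ := by rw [h3, mul_one]

theorem E_add_mul (δ : Fin r → P) (ℓ : P) (N : ℕ) (hN : 0 < N) (α : Fin r → ℕ) (B : P)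
    (hℓ : ℓ ^ N * ∏ j, δ j ^ α j = 1) (i m : ℕ) : E δ ℓ N α B (i + N * m) = E δ ℓ N α B i := by
  induction m with
  | zero => rfl
  | succ m ih => rw [Nat.mul_succ, ← Nat.add_assoc, E_add δ ℓ N hN α B hℓ, ih]

theorem E_one (δ : Fin r → P) (ℓ : P) (N : ℕ) (α : Fin r → ℕ) (B : P) (hα : ∀ j, α j < N) :
    E δ ℓ N α B 1 = ℓ⁻¹ * B := by
  unfold E
  have h1 : ∏ j, δ j ^ (1 * α j / N) = 1 := Finset.prod_eq_one fun j _ => by
    rw [one_mul, Nat.div_eq_of_lt (hα j), pow_zero]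
  rw [h1, pow_one, inv_one, mul_one]

theorem div_bounds (N p i : ℕ) (hN : 0 < N) (hp : 0 < p) :
    p * (i / N) ≤ p * i / N ∧ p * i / N ≤ p * (i / N) + (p - 1) := by
  constructor
  · exact Nat.mul_div_le_mul_div_assoc p i N
  · rw [← Nat.lt_succ_iff, Nat.div_lt_iff_lt_mul hN]
    have h1 := Nat.div_add_mod i N
    have h2 := Nat.mod_lt i hN
    have h3 : p * (i / N) + (p - 1) + 1 = p * (i / N) + p := by omega
    rw [Nat.succ_eq_add_one, h3]
    calc p * i = p * (N * (i / N) + i % N) := by rw [h1]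
      _ < p * (N * (i / N) + N) := by
        apply Nat.mul_lt_mul_of_pos_left _ hp
        omega
      _ = (p * (i / N) + p) * N := by ring

/-- One Frobenius step. -/
theorem step (δ : Fin r → P) (ℓ : P) (N : ℕ) (hN : 0 < N) (p : ℕ) (hp : 0 < p) (α : Fin r → ℕ)
    (b : Fin r → Prop) [DecidablePred b] (hα : ∀ j, b j → α j = 0) (S : P → ℕ)
    (core : ∀ (c c' : P) (e : Fin r → ℕ), (∀ j, e j ≤ p - 1) →
      c' * ∏ j, δ j ^ e j = c ^ p → S c ≤ S c') (i : ℕ) :
    S (E δ ℓ N α (∏ j ∈ univ.filter b, δ j) i) ≤ S (E δ ℓ N α (∏ j ∈ univ.filter b, δ j) (p * i)) := by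
  refine core _ _ (fun j => (p * (i * α j) / N - p * (i * α j / N)) + if b j then p - 1 else 0)
    (fun j => ?_) ?_
  · by_cases hb : b j
    · simp [hb, hα j hb]
    · have := div_bounds N p (i * α j) hN hp
      simp only [hb, if_false, add_zero]
      omega
  · have h1 : ∏ j, δ j ^ ((p * (i * α j) / N - p * (i * α j / N)) + if b j then p - 1 else 0) =
        (∏ j, δ j ^ (p * (i * α j) / N)) * (∏ j, δ j ^ (p * (i * α j / N)))⁻¹ *
          (∏ j ∈ univ.filter b, δ j) ^ (p - 1) := by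
      rw [← Finset.prod_pow, Finset.prod_filter, ← Finset.prod_inv_distrib, ← Finset.prod_mul_distrib,
        ← Finset.prod_mul_distrib]
      refine Finset.prod_congr rfl fun j _ => ?_
      rw [pow_add, pow_sub _ (div_bounds N p (i * α j) hN hp).1]
      by_cases hb : b j <;> simp [hb]
    rw [h1]
    unfold E
    have h2 : ∏ j, δ j ^ (p * i * α j / N) = ∏ j, δ j ^ (p * (i * α j) / N) :=
      Finset.prod_congr rfl fun j _ => by rw [mul_assoc]
    have h3 : ∏ j, δ j ^ (p * (i * α j / N)) = (∏ j, δ j ^ (i * α j / N)) ^ p := by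
      rw [← Finset.prod_pow]
      exact Finset.prod_congr rfl fun j _ => by rw [mul_comm, pow_mul]
    rw [h2, h3]
    generalize (∏ j, δ j ^ (p * (i * α j) / N)) = A
    generalize (∏ j, δ j ^ (i * α j / N)) = C
    generalize (∏ j ∈ univ.filter b, δ j) = B
    obtain ⟨p, rfl⟩ : ∃ q, p = q + 1 := ⟨p - 1, by omega⟩
    rw [Nat.add_sub_cancel, mul_pow, mul_pow, inv_pow, inv_pow, ← pow_mul, mul_comm i (p + 1)]
    rw [pow_succ B p]
    calc (ℓ ^ ((p + 1) * i))⁻¹ * A⁻¹ * B * (A * (C ^ (p + 1))⁻¹ * B ^ p)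
        = (A⁻¹ * A) * ((ℓ ^ ((p + 1) * i))⁻¹ * (C ^ (p + 1))⁻¹ * (B ^ p * B)) := by
          simp only [mul_comm, mul_left_comm, mul_assoc]
      _ = _ := by rw [inv_mul_cancel, one_mul]

theorem step_pow (δ : Fin r → P) (ℓ : P) (N : ℕ) (hN : 0 < N) (p : ℕ) (hp : 0 < p) (α : Fin r → ℕ)
    (b : Fin r → Prop) [DecidablePred b] (hα : ∀ j, b j → α j = 0) (S : P → ℕ)
    (core : ∀ (c c' : P) (e : Fin r → ℕ), (∀ j, e j ≤ p - 1) →
      c' * ∏ j, δ j ^ e j = c ^ p → S c ≤ S c') (i t : ℕ) :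
    S (E δ ℓ N α (∏ j ∈ univ.filter b, δ j) i) ≤
      S (E δ ℓ N α (∏ j ∈ univ.filter b, δ j) (p ^ t * i)) := by
  induction t with
  | zero => rw [pow_zero, one_mul]
  | succ t ih =>
    refine ih.trans ?_
    have := step δ ℓ N hN p hp α b hα S core (p ^ t * i)
    rwa [← mul_assoc, ← pow_succ'] at this

/-- The arithmetic of the last step. -/
theorem last_bounds (N p q K a : ℕ) (hN : 0 < N) (hqp : q * p = 1 + N * K) (ha : 0 < a) (haN : a < N)
    (ν : ℤ) (hν : (N : ℤ) * (|ν| + 1) ≤ p) :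
    0 ≤ ν + a * K - p * ((q * a / N : ℕ) : ℤ) ∧ ν + a * K - p * ((q * a / N : ℕ) : ℤ) ≤ p - 1 := by
  have h1 := Nat.div_add_mod (q * a) N
  have h2 := Nat.mod_lt (q * a) hN
  have h3 : 0 < q * a % N := by
    rw [Nat.pos_iff_ne_zero]
    intro h
    have h4 : N ∣ q * a := Nat.dvd_of_mod_eq_zero h
    have h5 : Nat.Coprime N q := by
      rw [Nat.coprime_iff_gcd_eq_one]
      have hd : Nat.gcd N q ∣ 1 := by
        have e1 : Nat.gcd N q ∣ q * p := (Nat.gcd_dvd_right N q).mul_right p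
        have e2 : Nat.gcd N q ∣ N * K := (Nat.gcd_dvd_left N q).mul_right K
        rw [hqp] at e1
        exact (Nat.dvd_add_left e2).1 e1
      exact Nat.dvd_one.1 hd
    have h6 : N ∣ a := h5.dvd_of_dvd_mul_left h4
    exact absurd (Nat.le_of_dvd ha h6) (by omega)
  set d := q * a / N with hd
  set ρ := q * a % N with hρ
  have h4 : (N : ℤ) * (a * K - p * d) = p * ρ - a := by
    have e1 : (q : ℤ) * p = 1 + N * K := by exact_mod_cast hqp
    have e2 : (N : ℤ) * d + ρ = q * a := by exact_mod_cast h1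
    linear_combination (-(a : ℤ)) * e1 + (-(p : ℤ)) * e2
  have hN' : (0 : ℤ) < N := by exact_mod_cast hN
  have hρ1 : (1 : ℤ) ≤ ρ := by exact_mod_cast h3
  have hρ2 : (ρ : ℤ) ≤ N - 1 := by have : (ρ : ℤ) < N := by exact_mod_cast h2
                                   linarith
  have haN' : (a : ℤ) < N := by exact_mod_cast haN
  have ha' : (0 : ℤ) < a := by exact_mod_cast ha
  have hp0 : (0 : ℤ) ≤ p := Int.natCast_nonneg p
  have hν1 : -|ν| ≤ ν := neg_abs_le ν
  have hν2 : ν ≤ |ν| := le_abs_self ν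
  constructor
  · have h5 : 0 ≤ (N : ℤ) * (ν + a * K - p * d) := by
      have e3 : (N : ℤ) * (ν + a * K - p * d) = N * ν + (p * ρ - a) := by linear_combination h4
      rw [e3]
      have e4 : (p : ℤ) * 1 ≤ p * ρ := mul_le_mul_of_nonneg_left hρ1 hp0
      nlinarith
    exact nonneg_of_mul_nonneg_right h5 hN'
  · have h5 : (N : ℤ) * (ν + a * K - p * d) ≤ N * (p - 1) := by
      have e3 : (N : ℤ) * (ν + a * K - p * d) = N * ν + (p * ρ - a) := by linear_combination h4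
      rw [e3]
      have e4 : (p : ℤ) * ρ ≤ p * (N - 1) := mul_le_mul_of_nonneg_left hρ2 hp0
      nlinarith
    exact le_of_mul_le_mul_left h5 hN'

/-- **The inequality.** -/
theorem main (δ : Fin r → P) (ℓ : P) (N : ℕ) (hN : 0 < N) (p : ℕ) (hp : p.Prime)
    (hNp : Nat.Coprime N p) (cls : Fin r → Fin 3) (α : Fin r → ℕ)
    (hα : ∀ j, cls j = 0 → 0 < α j ∧ α j < N) (hα' : ∀ j, cls j ≠ 0 → α j = 0)
    (hℓ : ℓ ^ N * ∏ j, δ j ^ α j = 1) (S : P → ℕ)
    (core : ∀ (c c' : P) (e : Fin r → ℕ), (∀ j, e j ≤ p - 1) →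
      c' * ∏ j, δ j ^ e j = c ^ p → S c ≤ S c')
    (ν : Fin r → ℤ) (h1 : ∀ j, cls j = 1 → 0 ≤ ν j) (h2 : ∀ j, cls j = 2 → ν j ≤ 0)
    (hν : ∀ j, (N : ℤ) * (|ν j| + 1) ≤ p) :
    S (ℓ⁻¹ * ∏ j ∈ univ.filter (fun j => cls j = 2), δ j) ≤
      S (ℓ⁻¹ * (∏ j ∈ univ.filter (fun j => cls j = 2), δ j) * (∏ j, δ j ^ ν j)⁻¹) := by
  classical
  have hp0 := hp.pos
  have hαN : ∀ j, α j < N := fun j => by
    by_cases h : cls j = 0
    · exact (hα j h).2
    · rw [hα' j h]; exact hN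
  -- the inverse of `p` modulo `N`
  obtain ⟨t, K, hqp⟩ : ∃ t K : ℕ, p ^ t * p = 1 + N * K := by
    have h3 : p ^ (Nat.totient N) ≡ 1 [MOD N] := Nat.ModEq.pow_totient hNp.symm
    have h4 : 0 < Nat.totient N := Nat.totient_pos.2 hN
    obtain ⟨t, ht⟩ : ∃ t, Nat.totient N = t + 1 := ⟨Nat.totient N - 1, by omega⟩
    rw [ht, pow_succ] at h3
    have h5 : 1 ≤ p ^ t * p := Nat.mul_pos (pow_pos hp0 t) hp0
    obtain ⟨K, hK⟩ := (Nat.modEq_iff_dvd' h5).1 h3.symm
    exact ⟨t, K, by omega⟩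
  set B := ∏ j ∈ univ.filter (fun j => cls j = 2), δ j with hB
  have h3 := step_pow δ ℓ N hN p hp0 α (fun j => cls j = 2) (fun j h => hα' j (by rw [h]; decide)) S core 1 t
  rw [mul_one, ← hB, E_one δ ℓ N α B hαN] at h3
  refine h3.trans ?_
  set q := p ^ t with hq
  -- the exponents
  let e' : Fin r → ℤ := fun j => ν j + α j * K - p * ((q * α j / N : ℕ) : ℤ) +
    if cls j = 2 then (p : ℤ) - 1 else 0
  have he' : ∀ j, 0 ≤ e' j ∧ e' j ≤ p - 1 := fun j => by
    have hνj := hν j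
    have hN' : (1 : ℤ) ≤ N := by exact_mod_cast hN
    have habs : |ν j| + 1 ≤ p := by
      have := abs_nonneg (ν j)
      nlinarith
    have hν1 : -|ν j| ≤ ν j := neg_abs_le (ν j)
    have hν2 : ν j ≤ |ν j| := le_abs_self (ν j)
    by_cases h0 : cls j = 0
    · have := last_bounds N p q K (α j) hN hqp (hα j h0).1 (hα j h0).2 (ν j) hνj
      have h2' : ¬ cls j = 2 := by rw [h0]; decide
      simp only [e', h2', if_false, add_zero]
      exact this
    · have hα0 := hα' j h0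
      by_cases h2' : cls j = 2
      · have := h2 j h2'
        simp only [e', h2', if_true, hα0]
        simp
        constructor <;> linarith
      · have h1' : cls j = 1 := by
          have : ∀ c : Fin 3, c ≠ 0 → ¬ c = 2 → c = 1 := by decide
          exact this _ h0 h2'
        have := h1 j h1'
        simp only [e', h2', if_false, hα0]
        simp
        constructor <;> linarith
  refine core _ _ (fun j => (e' j).toNat) (fun j => ?_) ?_
  · have := he' j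
    have hp1 : (1 : ℤ) ≤ p := by exact_mod_cast hp0
    omega
  · have h4 : ∏ j, δ j ^ (e' j).toNat = (∏ j, δ j ^ ν j) * (∏ j, δ j ^ α j) ^ K *
        ((∏ j, δ j ^ (q * α j / N)) ^ p)⁻¹ * B ^ (p - 1) := by
      rw [← Finset.prod_pow, ← Finset.prod_pow, ← Finset.prod_inv_distrib, hB, ← Finset.prod_pow,
        Finset.prod_filter, ← Finset.prod_mul_distrib, ← Finset.prod_mul_distrib,
        ← Finset.prod_mul_distrib]
      refine Finset.prod_congr rfl fun j _ => ?_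
      have e1 : δ j ^ (e' j).toNat = δ j ^ (e' j) := by
        rw [← zpow_natCast, Int.toNat_of_nonneg (he' j).1]
      rw [e1]
      simp only [e']
      rw [zpow_add, zpow_sub, zpow_add]
      congr 1
      · congr 1
        · congr 1
          rw [zpow_mul, zpow_natCast, zpow_natCast]
        · rw [mul_comm, zpow_mul, zpow_natCast, zpow_natCast]
      · by_cases h2' : cls j = 2
        · simp only [h2', if_true]
          have : (p : ℤ) - 1 = ((p - 1 : ℕ) : ℤ) := by omega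
          rw [this, zpow_natCast]
        · simp only [h2', if_false, zpow_zero]
    rw [h4]
    unfold E
    have h5 : (ℓ ^ N) = (∏ j, δ j ^ α j)⁻¹ := eq_inv_of_mul_eq_one_left hℓ
    have h6 : ℓ ^ (q * p) = ℓ * ((∏ j, δ j ^ α j) ^ K)⁻¹ := by
      rw [hqp, pow_add, pow_one, pow_mul, h5, inv_pow]
    generalize (∏ j, δ j ^ ν j) = V
    generalize hC : (∏ j, δ j ^ (q * α j / N)) = C
    generalize hA : ((∏ j, δ j ^ α j) ^ K) = A at *
    obtain ⟨p', hp'⟩ : ∃ q, p = q + 1 := ⟨p - 1, by omega⟩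
    have h7 : B ^ p = B ^ (p - 1) * B := by rw [hp', Nat.add_sub_cancel, pow_succ]
    rw [mul_pow, mul_pow, inv_pow, inv_pow, ← pow_mul, h6, h7, mul_inv, inv_inv]
    calc ℓ⁻¹ * B * V⁻¹ * (V * A * (C ^ p)⁻¹ * B ^ (p - 1))
        = (V⁻¹ * V) * (ℓ⁻¹ * A * (C ^ p)⁻¹ * (B ^ (p - 1) * B)) := by
          simp only [mul_comm, mul_left_comm, mul_assoc]
      _ = _ := by rw [inv_mul_cancel, one_mul]

/-- Frobenius steps for `c⁻¹(-B)`. -/
theorem frob_pow (δ : Fin r → P) (p : ℕ) (hp : 0 < p) (b : Fin r → Prop) [DecidablePred b]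
    (S : P → ℕ) (core : ∀ (c c' : P) (e : Fin r → ℕ), (∀ j, e j ≤ p - 1) →
      c' * ∏ j, δ j ^ e j = c ^ p → S c ≤ S c') (c : P) (k : ℕ) :
    S (c⁻¹ * ∏ j ∈ univ.filter b, δ j) ≤ S ((c ^ p ^ k)⁻¹ * ∏ j ∈ univ.filter b, δ j) := by
  induction k with
  | zero => rw [pow_zero, pow_one]
  | succ k ih =>
    refine ih.trans ?_
    refine core _ _ (fun j => if b j then p - 1 else 0) (fun j => ?_) ?_
    · by_cases hb : b j <;> simp [hb]
    · have h1 : ∏ j, δ j ^ (if b j then p - 1 else 0) = (∏ j ∈ univ.filter b, δ j) ^ (p - 1) := by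
        rw [← Finset.prod_pow, Finset.prod_filter]
        refine Finset.prod_congr rfl fun j _ => ?_
        by_cases hb : b j <;> simp [hb]
      rw [h1]
      generalize (∏ j ∈ univ.filter b, δ j) = B
      obtain ⟨p, rfl⟩ : ∃ q, p = q + 1 := ⟨p - 1, by omega⟩
      rw [Nat.add_sub_cancel, mul_pow, inv_pow, ← pow_mul, mul_assoc, ← pow_succ' B p, ← pow_succ]

end K911.PicCalc
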