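import Groth.Agent.Vanish.K911.Cd
import Groth.Agent.Vanish.K911.PicCalc
import Groth.Agent.S0051

/-!
# The logarithmic Akizuki-Kodaira-Nakano vanishing theorem from the core inequality in characteristic `p`
-/

set_option autoImplicit false
universe u
open CategoryTheory CategoryTheory.Limits AlgebraicGeometry

namespace K911.Akn

open Groth.Agent Groth.Agent.Fga.PicMon Groth.Agent.Pic13.H11.Cls K911.DivCls

/-- The core inequality for classes. -/
def CoreFor (p : ℕ) (k : Type u) [Field k] {X : Scheme.{u}} [X.Over (Spec (CommRingCat.of k))] (La : ℕ → X.Modules)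
    {r : ℕ} (δ : Fin r → (MC X)ˣ) : Prop :=
  ∀ m : ℕ, m < p → ∀ (c c' : (MC X)ˣ) (e : Fin r → ℕ), (∀ j, e j ≤ p - 1) →
      c' * ∏ j, δ j ^ e j = c ^ p → S k La m c ≤ S k La m c'

variable (k : Type u) [Field k] {X : Scheme.{u}} [X.Over (Spec (CommRingCat.of k))]
  [IsProper (X ↘ Spec (CommRingCat.of k))] [IsLocallyNoetherian X]

include k in
omit [IsLocallyNoetherian X] in
theorem serre {H : X.Modules} (hH : CohB1.IsAmple H) {c : MC X} (hc : Co c) :
    ∃ p₀ : ℕ, ∀ p, p₀ ≤ p → ∀ i, 1 ≤ i → V i ((unit hH.1) ^ p • c) := by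
  induction c using MC.ind with | h F => ?_
  obtain ⟨n₀, h⟩ := (S0051.result k X (X ↘ Spec (CommRingCat.of k)) H hH.1).1 hH F hc
  refine ⟨n₀, fun p hp i hi => ?_⟩
  rw [smul_def, Units.val_pow_eq_pow_val, unit_val, ← mc_tensorPow, mul_comm, ← mc_tensor]
  exact h p hp i hi

include k in
omit [IsLocallyNoetherian X] in
/-- Serre vanishing for finitely many modules. -/
theorem exists_serre {L : X.Modules} (hL : CohB1.IsAmple L) (c : ℕ → MC X) (hc : ∀ a, Co (c a)) (N : ℕ) :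
    ∃ P₀ : ℕ, ∀ P, P₀ ≤ P → ∀ a, a ≤ N → ∀ i, 1 ≤ i → V i ((unit hL.1) ^ P • c a) := by
  choose p₀ h using fun a => serre k hL (hc a)
  refine ⟨∑ a ∈ Finset.range (N + 1), p₀ a, fun P hP a ha i hi => h a P (le_trans ?_ hP) i hi⟩
  exact Finset.single_le_sum (fun a _ => Nat.zero_le (p₀ a)) (Finset.mem_range.2 (by omega))

omit [IsLocallyNoetherian X] in
include k in
/-- The cohomological dimension with respect to the support of an ample divisor is zero. -/
theorem cdLE_of_ample {r : ℕ} {D : Fin r → X.IdealSheafData} (hD : ∀ j, BlowUp.IsEffCartierIdeal (D j))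
    {μ : Fin r → ℕ} {A : X.Modules} (hA : CohB1.IsAmple A)
    (hAB : ClSub.IsInverseOf A (ClSub.idealMod (∏ j, D j ^ μ j))) : Cd.CdLE D μ 0 := by
  intro F hF q hq
  obtain ⟨p₀, h⟩ := serre k hA (c := mc F) hF
  refine ⟨p₀ + 1, Nat.succ_pos _, fun ν hν hd M hM => ?_⟩
  have h1 : p₀ ≤ ν := (Nat.le_succ p₀).trans (Nat.le_of_dvd hν hd)
  have h2 := h ν h1 q hq
  have e1 : (unit hA.1 : (MC X)ˣ) * ∏ j, dcl (hD j) ^ μ j = 1 := by
    apply Units.ext
    rw [Units.val_mul, unit_val, ← mc_prod_pow Finset.univ hD, Units.val_one]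
    exact isInverseOf_iff.1 hAB
  have e2 : mc M = (((unit hA.1 : (MC X)ˣ) ^ ν : (MC X)ˣ) : MC X) := by
    have e3 : mc M * ((∏ j, dcl (hD j) ^ (ν * μ j) : (MC X)ˣ) : MC X) = 1 := by
      rw [← mc_prod_pow Finset.univ hD]
      exact isInverseOf_iff.1 hM
    have e4 : (∏ j, dcl (hD j) ^ (ν * μ j) : (MC X)ˣ) = ((unit hA.1 : (MC X)ˣ) ^ ν)⁻¹ := by
      rw [← inv_pow, ← eq_inv_of_mul_eq_one_right e1, ← Finset.prod_pow]
      exact Finset.prod_congr rfl fun j _ => by rw [mul_comm, pow_mul]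
    rw [e4] at e3
    calc mc M = mc M * ((((unit hA.1 : (MC X)ˣ) ^ ν)⁻¹ : (MC X)ˣ) : MC X) *
        (((unit hA.1 : (MC X)ˣ) ^ ν : (MC X)ˣ) : MC X) := by
          rw [mul_assoc, Units.inv_mul, mul_one]
      _ = _ := by rw [e3, one_mul]
  rw [smul_def, ← e2, mul_comm, ← mc_tensor] at h2
  exact h2

theorem akn_p {p : ℕ} (hp : p.Prime) {n : ℕ} {ω : X.Modules} (hω : Coh.IsCoh ω) (sd : Dual.SerreD k X n ω)
    {La : ℕ → X.Modules} (hf : ∀ a, FlatMod.IsFinLocFree (La a)) (hc : ∀ a, Coh.IsCoh (La a))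
    {r : ℕ} {δ : Fin r → (MC X)ˣ} (hC : CoreFor p k La δ) {L : X.Modules} (hL : CohB1.IsAmple L)
    (s : Finset (Fin r)) {a b : ℕ} (hab : a + b < n) (habp : a + b < p) :
    V b (((unit hL.1)⁻¹ * ∏ j ∈ s, δ j) • mc (La a)) := by
  classical
  obtain ⟨P₀, h0⟩ := exists_serre k hL (fun a => (∏ j ∈ s, δ j)⁻¹ • mc ((DCoh.sheafHom (La a)).obj ω))
    (fun a => Co.smul (show Co (mc ((DCoh.sheafHom (La a)).obj ω)) from Dual.isCoh_sheafHom (hc a) hω) _) (a + b)
  have h1 := PicCalc.frob_pow δ p hp.pos (· ∈ s) (S k La (a + b)) (hC (a + b) habp) (unit hL.1) P₀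
  have h2 : Finset.univ.filter (· ∈ s) = s := by ext j; simp
  rw [h2] at h1
  refine V_of_S_le k La a b (hc a) h1 fun a' b' hab' => ?_
  refine Dual.V_dual k sd (hf a') _ (by omega) ?_
  have h3 := h0 (p ^ P₀) (Nat.lt_pow_self hp.one_lt).le a' (by omega) (n - b') (by omega)
  rw [smul_smul] at h3
  convert h3 using 2
  rw [mul_inv, inv_inv]

end K911.Akn
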