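import Groth.Agent.Vanish.K911.Dual
import Groth.Agent.Krr.H502.KosZero
import Groth.Agent.Fga.HShift

/-!
# Vanishing from cohomological dimension and duality

`Sgn ...`: the inequalities `S (L⁻¹(-B)) ≤ S (L⁻¹(-B)(∑ ν_j D_j))`; `cd_high`, `cd_low`: the vanishing theorems that
follow for `a + b > n + c` and `a + b < n - c`.
-/

set_option autoImplicit false
universe u
open CategoryTheory CategoryTheory.Limits AlgebraicGeometry

namespace K911.Cd

open Groth.Agent Groth.Agent.Fga.PicMon Groth.Agent.Pic13.H11.Cls K911.DivCls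

variable {X : Scheme.{u}}

/-- The cohomological dimension with respect to `∑ β_j D_j` is at most `c`. -/
def CdLE {r : ℕ} (D : Fin r → X.IdealSheafData) (β : Fin r → ℕ) (c : ℕ) : Prop :=
  ∀ (F : X.Modules), Coh.IsCoh F → ∀ q : ℕ, c < q → ∃ ν₀ : ℕ, 0 < ν₀ ∧ ∀ ν : ℕ, 0 < ν → ν₀ ∣ ν →
        ∀ M : X.Modules, ClSub.IsInverseOf M (ClSub.idealMod (∏ j, D j ^ (ν * β j))) →
          Subsingleton (Coh.HH X (CohB1.tensorMod F M) q)

/-- The same in terms of classes: for each `c'` and `q > c` some `ν₀`. -/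
theorem CdLE.exists_V {r : ℕ} {D : Fin r → X.IdealSheafData} (hD : ∀ j, BlowUp.IsEffCartierIdeal (D j))
    {β : Fin r → ℕ} {c : ℕ} (h : CdLE D β c) {c' : MC X} (hc : Co c') {q : ℕ} (hq : c < q) :
    ∃ ν₀ : ℕ, 0 < ν₀ ∧ ∀ ν : ℕ, 0 < ν → ν₀ ∣ ν → V q ((∏ j, dcl (hD j) ^ (ν * β j))⁻¹ • c') := by
  induction c' using MC.ind with | h F => ?_
  obtain ⟨ν₀, h0, h1⟩ := h F hc q hq
  refine ⟨ν₀, h0, fun ν hν hd => ?_⟩
  obtain ⟨M, -, hM⟩ := exists_invertible (∏ j, dcl (hD j) ^ (ν * β j))⁻¹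
  have h2 : ClSub.IsInverseOf M (ClSub.idealMod (∏ j, D j ^ (ν * β j))) := by
    rw [isInverseOf_iff, hM, mc_prod_pow Finset.univ hD, Units.inv_mul]
  have h3 : Subsingleton (Coh.HH X (CohB1.tensorMod F M) q) := h1 ν hν hd M h2
  rw [smul_def, ← hM, mul_comm, ← mc_tensor]
  exact h3

/-- Finitely many modules at once. -/
theorem CdLE.exists_V_family {r : ℕ} {D : Fin r → X.IdealSheafData} (hD : ∀ j, BlowUp.IsEffCartierIdeal (D j))
    {β : Fin r → ℕ} {c : ℕ} (h : CdLE D β c) (s : Finset ℕ) (c' : ℕ → MC X) (hc : ∀ a, Co (c' a)) (q : ℕ → ℕ)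
    (hq : ∀ a ∈ s, c < q a) :
    ∃ ν : ℕ, 0 < ν ∧ ∀ a ∈ s, V (q a) ((∏ j, dcl (hD j) ^ (ν * β j))⁻¹ • c' a) := by
  have h1 : ∀ a, ∃ ν₀ : ℕ, 0 < ν₀ ∧ (a ∈ s → ∀ ν : ℕ, 0 < ν → ν₀ ∣ ν →
      V (q a) ((∏ j, dcl (hD j) ^ (ν * β j))⁻¹ • c' a)) := fun a => by
    by_cases ha : a ∈ s
    · obtain ⟨ν₀, h0, h1⟩ := h.exists_V hD (hc a) (hq a ha)
      exact ⟨ν₀, h0, fun _ => h1⟩
    · exact ⟨1, one_pos, fun h => absurd h ha⟩
  choose ν₀ h0 h2 using h1
  refine ⟨∏ a ∈ s, ν₀ a, Finset.prod_pos fun a _ => h0 a, fun a ha => h2 a ha _ ?_ ?_⟩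
  · exact Finset.prod_pos fun a _ => h0 a
  · exact Finset.dvd_prod_of_mem ν₀ ha

variable (k : Type u) [Field k] [X.Over (Spec (CommRingCat.of k))]

omit [X.Over (Spec (CommRingCat.of k))] in
theorem V_of_isZero {F : X.Modules} (hF : IsZero F) (u : (MC X)ˣ) (b : ℕ) : V b (u • mc F) := by
  obtain ⟨P, hP, hu⟩ := exists_invertible u
  have : ((DCoh.tensorBi (X := X)).obj P).IsLeftAdjoint := Dcoh.MonClosed.hasSheafHom P
  have h1 : IsZero (CohB1.tensorMod P F) := (DCoh.tensorBi.obj P).map_isZero hF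
  have h2 := Fga.HShift.subsingleton_of_isZero h1 b
  rw [smul_def, ← hu, ← mc_tensor]
  exact h2

/-- The inequalities in characteristic zero for the class `l` of `L`. -/
def Ineq (La : ℕ → X.Modules) {r : ℕ} (δ : Fin r → (MC X)ˣ) (cls : Fin r → Fin 3) (l : (MC X)ˣ) : Prop :=
  ∀ (m : ℕ) (ν : Fin r → ℤ), (∀ j, cls j = 1 → 0 ≤ ν j) → (∀ j, cls j = 2 → ν j ≤ 0) →
    S k La m (l⁻¹ * ∏ j ∈ Finset.univ.filter (fun j => cls j = 2), δ j) ≤
      S k La m (l⁻¹ * (∏ j ∈ Finset.univ.filter (fun j => cls j = 2), δ j) * (∏ j, δ j ^ ν j)⁻¹)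

variable [IsProper (X ↘ Spec (CommRingCat.of k))]

theorem cd_high {n : ℕ} {La : ℕ → X.Modules} (hc : ∀ a, Coh.IsCoh (La a)) (hz : ∀ a, n < a → IsZero (La a))
    {r : ℕ} {D : Fin r → X.IdealSheafData} (hD : ∀ j, BlowUp.IsEffCartierIdeal (D j))
    {cls : Fin r → Fin 3} {l : (MC X)ˣ} (hI : Ineq k La (fun j => dcl (hD j)) cls l)
    {c : ℕ} {β : Fin r → ℕ} (hβ : ∀ j, cls j = 2 → β j = 0) (hcd : CdLE D β c) {a b : ℕ} (hab : n + c < a + b) :
    V b ((l⁻¹ * ∏ j ∈ Finset.univ.filter (fun j => cls j = 2), dcl (hD j)) • mc (La a)) := by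
  obtain ⟨ν, hν, h1⟩ := hcd.exists_V_family hD (Finset.range (n + 1))
    (fun a' => (l⁻¹ * ∏ j ∈ Finset.univ.filter (fun j => cls j = 2), dcl (hD j)) • mc (La a'))
    (fun a' => Co.smul (show Co (mc (La a')) from hc a') _) (fun a' => a + b - a') (fun a' ha' => by
      have := Finset.mem_range.1 ha'; omega)
  refine V_of_S_le k La a b (hc a) (hI (a + b) (fun j => (ν * β j : ℕ)) (fun j _ => by positivity)
    (fun j hj => by rw [hβ j hj]; simp)) fun a' b' hab' => ?_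
  rcases Nat.lt_or_ge n a' with h | h
  · exact V_of_isZero (hz a' h) _ _
  · have h2 := h1 a' (Finset.mem_range.2 (by omega))
    rw [show a + b - a' = b' by omega, smul_smul, mul_comm] at h2
    simpa only [zpow_natCast] using h2

theorem cd_low {n : ℕ} {ω : X.Modules} (hω : Coh.IsCoh ω) (sd : Dual.SerreD k X n ω) {La : ℕ → X.Modules}
    (hf : ∀ a, FlatMod.IsFinLocFree (La a)) (hc : ∀ a, Coh.IsCoh (La a)) [IsLocallyNoetherian X]
    {r : ℕ} {D : Fin r → X.IdealSheafData} (hD : ∀ j, BlowUp.IsEffCartierIdeal (D j))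
    {cls : Fin r → Fin 3} {l : (MC X)ˣ} (hI : Ineq k La (fun j => dcl (hD j)) cls l)
    {c : ℕ} {β : Fin r → ℕ} (hβ : ∀ j, cls j = 1 → β j = 0) (hcd : CdLE D β c) {a b : ℕ} (hab : a + b + c < n) :
    V b ((l⁻¹ * ∏ j ∈ Finset.univ.filter (fun j => cls j = 2), dcl (hD j)) • mc (La a)) := by
  obtain ⟨ν, hν, h1⟩ := hcd.exists_V_family hD (Finset.range (a + b + 1))
    (fun a' => (l⁻¹ * ∏ j ∈ Finset.univ.filter (fun j => cls j = 2), dcl (hD j))⁻¹ •
      mc ((DCoh.sheafHom (La a')).obj ω))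
    (fun a' => Co.smul (show Co (mc ((DCoh.sheafHom (La a')).obj ω)) from Dual.isCoh_sheafHom (hc a') hω) _) (fun a' => n - (a + b - a')) (fun a' ha' => by
      have := Finset.mem_range.1 ha'; omega)
  refine V_of_S_le k La a b (hc a) (hI (a + b) (fun j => -((ν * β j : ℕ) : ℤ))
    (fun j hj => by rw [hβ j hj]; simp) (fun j _ => neg_nonpos.2 (Int.natCast_nonneg _))) fun a' b' hab' => ?_
  refine Dual.V_dual k sd (hf a') _ (by omega) ?_
  have h2 := h1 a' (Finset.mem_range.2 (by omega))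
  rw [show a + b - a' = b' by omega, smul_smul] at h2
  convert h2 using 2
  rw [mul_inv, inv_inv, mul_comm]
  congr 1
  simp only [zpow_neg, zpow_natCast, Finset.prod_inv_distrib]

end K911.Cd
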