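import Groth.Agent.Pic13.H11.Cls

/-!
# Surjectivity on cohomology in terms of dimensions

For a short exact sequence `0 → F → G → Q → 0` of coherent modules on a proper scheme over a field, all maps
`H^i(F) → H^i(G)` are surjective if and only if `h^0(F) = h^0(G)` and `h^{i+1}(F) = h^i(Q) + h^{i+1}(G)` for all `i`.
-/

set_option autoImplicit false
universe u
open CategoryTheory CategoryTheory.Limits AlgebraicGeometry

namespace K911.Surj

open Groth.Agent Groth.Agent.VarietyA.EulerLES Groth.Agent.VarietyA.EulerAdd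

variable (k : Type u) [Field k] {X : Scheme.{u}} [X.Over (Spec (CommRingCat.of k))]
  (S : ShortComplex X.Modules) (hS : S.ShortExact)

/-- The numerical condition. -/
def NumSurj (F G Q : X.Modules) : Prop :=
  Module.finrank k (Coh.HH X F 0) = Module.finrank k (Coh.HH X G 0) ∧
    ∀ i, Module.finrank k (Coh.HH X F (i + 1)) =
      Module.finrank k (Coh.HH X Q i) + Module.finrank k (Coh.HH X G (i + 1))

include hS in
theorem surjective_iff_range (i : ℕ) [Module.Finite k (Coh.HH X S.X₂ i)] :
    Function.Surjective (mapA k S.f i) ↔ Module.finrank k (LinearMap.range (mapA k S.g i)) = 0 := by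
  rw [← LinearMap.range_eq_top]
  have h2 := finrank_eq k S hS i
  constructor
  · intro h
    rw [h, finrank_top] at h2
    omega
  · intro h
    rw [h, add_zero] at h2
    exact Submodule.eq_top_of_finrank_eq h2.symm

include hS in
theorem surjective_iff [f₁ : ∀ i, Module.Finite k (Coh.HH X S.X₁ i)] [f₂ : ∀ i, Module.Finite k (Coh.HH X S.X₂ i)]
    [f₃ : ∀ i, Module.Finite k (Coh.HH X S.X₃ i)] :
    (∀ i, Function.Surjective (mapA k S.f i)) ↔ NumSurj k S.X₁ S.X₂ S.X₃ := by
  simp only [surjective_iff_range k S hS]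
  unfold NumSurj
  constructor
  · intro h
    refine ⟨?_, fun i => ?_⟩
    · rw [finrank_eq₀ k S hS, finrank_eq k S hS 0, h 0, add_zero]
    · rw [finrank_eq₁ k S hS i, finrank_eq k S hS (i + 1), finrank_eq₃ k S hS i, h i, h (i + 1)]
      omega
  · rintro ⟨h0, h1⟩ i
    cases i with
    | zero =>
      rw [finrank_eq₀ k S hS, finrank_eq k S hS 0] at h0
      omega
    | succ i =>
      have h2 := h1 i
      rw [finrank_eq₁ k S hS i, finrank_eq k S hS (i + 1), finrank_eq₃ k S hS i] at h2
      omega

variable [IsProper (X ↘ Spec (CommRingCat.of k))]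

include hS in
theorem surjective_iff_of_isCoh (h1 : Coh.IsCoh S.X₁) (h2 : Coh.IsCoh S.X₂) (h3 : Coh.IsCoh S.X₃) :
    (∀ i, Function.Surjective (Sheaf.H.map ((SheafOfModules.toSheaf X.ringCatSheaf).map S.f) i)) ↔
      NumSurj k S.X₁ S.X₂ S.X₃ := by
  have f1 := fun i => Fga.HodgeSec.finite_HH' k h1 i
  have f2 := fun i => Fga.HodgeSec.finite_HH' k h2 i
  have f3 := fun i => Fga.HodgeSec.finite_HH' k h3 i
  exact surjective_iff k S hS

end K911.Surj
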