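import Groth.Agent.Vanish.K911.PullIdeal
import Groth.Agent.Vanish.K911.Surj
import Groth.Prelude.Def_KoszTw

/-!
# The quotient of two ideal modules

* `exists_incl`: for `K ≤ I` the inclusion `idealMod K ⟶ idealMod I`;
* `pull_coker`: the pull-back of the cokernel is the cokernel of the inclusion of the inverse image ideals, all ideals
  effective Cartier;
* `surj_iff`: surjectivity of all `H^b(L ⊗ K) → H^b(L ⊗ I)` in terms of dimensions.
-/

set_option autoImplicit false
universe u

open CategoryTheory CategoryTheory.Limits AlgebraicGeometry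

namespace K911.Coker

open Groth.Agent Groth.Agent.Sga67.Sec Groth.Agent.Dix.IdealModCartier

variable {X Y : Scheme.{u}} {K I : X.IdealSheafData}

theorem exists_incl (h : K ≤ I) : ∃ κ : ClSub.idealMod K ⟶ ClSub.idealMod I,
    κ ≫ ClSub.idealModι I = ClSub.idealModι K := by
  refine ⟨kernel.lift (ClSub.toSubscheme I) (ClSub.idealModι K) ?_, kernel.lift_ι _ _ _⟩
  apply hom_ext
  intro U s
  obtain ⟨n, hn⟩ := exists_val_eq_of_local I U (val K s) fun x hx => by
    obtain ⟨V, hxV, hVU⟩ := exists_affine_mem_le U x hx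
    refine ⟨V, hVU, hxV, h V ?_⟩
    have h1 := val_mem K V (Groth.Agent.Fdesc.LocGen.res _ hVU s)
    rwa [val_res] at h1
  have h1 : appS (ClSub.idealModι K) U s = appS (ClSub.idealModι I) U n := hn.symm
  rw [appS_comp, h1, ← appS_comp]
  have h2 : ClSub.idealModι I ≫ ClSub.toSubscheme I = 0 := kernel.condition _
  rw [h2]
  rfl

instance mono_ι (I : X.IdealSheafData) : Mono (ClSub.idealModι I) :=
  inferInstanceAs (Mono (kernel.ι (ClSub.toSubscheme I)))

theorem mono_of_comp {κ : ClSub.idealMod K ⟶ ClSub.idealMod I} (h : κ ≫ ClSub.idealModι I = ClSub.idealModι K) :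
    Mono κ := by
  have : Mono (κ ≫ ClSub.idealModι I) := by rw [h]; infer_instance
  exact mono_of_mono κ (ClSub.idealModι I)

theorem pull_coker (q : Y ⟶ X) {κ : ClSub.idealMod K ⟶ ClSub.idealMod I}
    (hκ : κ ≫ ClSub.idealModι I = ClSub.idealModι K) (hK : BlowUp.IsEffCartierIdeal K)
    (hI : BlowUp.IsEffCartierIdeal I) {K' I' : Y.IdealSheafData} (eK : K.comap q = K') (eI : I.comap q = I')
    (hK' : BlowUp.IsEffCartierIdeal K') (hI' : BlowUp.IsEffCartierIdeal I')
    {κ' : ClSub.idealMod K' ⟶ ClSub.idealMod I'} (hκ' : κ' ≫ ClSub.idealModι I' = ClSub.idealModι K') :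
    Nonempty ((Scheme.Modules.pullback q).obj (cokernel κ) ≅ cokernel κ') := by
  subst eK eI
  obtain ⟨θK, hθK⟩ := PullIdeal.exists_idealIso q hK hK'
  obtain ⟨θI, hθI⟩ := PullIdeal.exists_idealIso q hI hI'
  have h1 : (Scheme.Modules.pullback q).map κ ≫ θI.hom = θK.hom ≫ κ' := by
    rw [← cancel_mono (ClSub.idealModι (I.comap q)), Category.assoc, Category.assoc, hθI, hκ', hθK,
      ← Category.assoc, ← Functor.map_comp, hκ]
  exact ⟨(PreservesCokernel.iso (Scheme.Modules.pullback q) κ) ≪≫ cokernel.mapIso _ _ θK θI h1⟩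

/-- The exact sequence `0 → L ⊗ K → L ⊗ I → L ⊗ (I/K) → 0`. -/
noncomputable def seq (L : X.Modules) (κ : ClSub.idealMod K ⟶ ClSub.idealMod I) : ShortComplex X.Modules :=
  (ShortComplex.mk κ (cokernel.π κ) (cokernel.condition κ)).map (DCoh.tensorBi.obj L)

theorem seq_f (L : X.Modules) (κ : ClSub.idealMod K ⟶ ClSub.idealMod I) :
    (seq L κ).f = KoszTw.tensorMap (𝟙 L) κ := KoszTw.tensorBi_obj_map L κ

theorem shortExact_seq {L : X.Modules} (hL : PicF.IsInvertible L) {κ : ClSub.idealMod K ⟶ ClSub.idealMod I}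
    (h : κ ≫ ClSub.idealModι I = ClSub.idealModι K) : (seq L κ).ShortExact := by
  have := mono_of_comp h
  refine Fga.TwistCoh.shortExact_tensorBi hL _ ?_
  exact { exact := ShortComplex.exact_cokernel κ }

variable (k : Type u) [Field k] [X.Over (Spec (CommRingCat.of k))] [IsProper (X ↘ Spec (CommRingCat.of k))]

theorem surj_iff {L : X.Modules} (hL : PicF.IsInvertible L) {κ : ClSub.idealMod K ⟶ ClSub.idealMod I}
    (h : κ ≫ ClSub.idealModι I = ClSub.idealModι K) (hK : BlowUp.IsEffCartierIdeal K)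
    (hI : BlowUp.IsEffCartierIdeal I) :
    (∀ b, Function.Surjective (Sheaf.H.map ((SheafOfModules.toSheaf X.ringCatSheaf).map
      (KoszTw.tensorMap (𝟙 L) κ)) b)) ↔
    Surj.NumSurj k (CohB1.tensorMod L (ClSub.idealMod K)) (CohB1.tensorMod L (ClSub.idealMod I))
      (CohB1.tensorMod L (cokernel κ)) := by
  have hK1 : Coh.IsCoh (ClSub.idealMod K) := Fga.HodgeSec.isCoh_of_isInvertible (isInvertible_idealMod hK)
  have hI1 : Coh.IsCoh (ClSub.idealMod I) := Fga.HodgeSec.isCoh_of_isInvertible (isInvertible_idealMod hI)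
  have hQ1 : Coh.IsCoh (cokernel κ) := Sga67.CohBasic.isCoh_cokernel κ hK1.1 hI1
  rw [← seq_f]
  exact Surj.surjective_iff_of_isCoh k (seq L κ) (shortExact_seq hL h) (Fga.SnapperTwist.isCoh_tensor' hL hK1)
    (Fga.SnapperTwist.isCoh_tensor' hL hI1) (Fga.SnapperTwist.isCoh_tensor' hL hQ1)

end K911.Coker
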