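import Groth.Agent.Vanish.K911.Ncd
import Groth.Agent.OmegaSh.K583.DerFunct
import Groth.Agent.Krr.H487.LocBasisPull
import Groth.Agent.Krr.H487.ExtPull
import Groth.Agent.LogNCD.K922.DSec

/-!
# The comparison map of sheaves of logarithmic differentials

For a commutative square `g : X' ⟶ X` over `b : S' ⟶ S`, universal derivations `d`, `d'`, `Λ : LogMod d D` and
`Λ' : LogMod d' (D.comap g)`, with `D` a normal crossing divisor, the map `c : g^* Λ.L ⟶ Λ'.L`.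
-/

set_option autoImplicit false
universe u

open CategoryTheory CategoryTheory.Limits AlgebraicGeometry TopologicalSpace Opposite

namespace K911.LogBC

open Groth.Agent.Sga67.Sec Groth.Agent.Krr.H487.LocBasisPull
open Groth.Agent.Divis.IdealComap Groth.Agent.Divis.BlowChart2
open K583.DerFunct K583.DerAffine K922.DSec

section Div

variable {X : Scheme.{u}}

/-- Unique division by a function which is a nonzerodivisor on a module. -/
theorem exists_div (N : X.Modules) (V : X.Opens) (a : Γ(X, V))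
    (ha : ∀ (W : X.Opens) (h : W ≤ V) (s : Sec N W), resO X h a • s = 0 → s = 0) (s : Sec N V)
    (H : ∀ x ∈ V, ∃ (W : X.Opens) (h : W ≤ V), x ∈ W ∧ ∃ y : Sec N W, resO X h a • y = res N h s) :
    ∃ y : Sec N V, a • y = s := by
  choose W hW hxW y hy using H
  obtain ⟨z, hz, -⟩ := TopCat.Sheaf.existsUnique_gluing' ⟨N.presheaf, N.isSheaf⟩
    (fun x : V => W x.1 x.2) V (fun x => homOfLE (hW x.1 x.2)) (by
      intro x hx
      exact Opens.mem_iSup.mpr ⟨⟨x, hx⟩, hxW x hx⟩) (fun x => y x.1 x.2) (by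
      intro x x'
      change res N (inf_le_left : W x.1 x.2 ⊓ W x'.1 x'.2 ≤ _) (y x.1 x.2) =
        res N (inf_le_right : W x.1 x.2 ⊓ W x'.1 x'.2 ≤ _) (y x'.1 x'.2)
      rw [← sub_eq_zero]
      apply ha _ (inf_le_left.trans (hW x.1 x.2))
      rw [smul_sub, sub_eq_zero]
      have e1 := congrArg (res N (inf_le_left : W x.1 x.2 ⊓ W x'.1 x'.2 ≤ _)) (hy x.1 x.2)
      have e2 := congrArg (res N (inf_le_right : W x.1 x.2 ⊓ W x'.1 x'.2 ≤ _)) (hy x'.1 x'.2)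
      rw [res_smul, resO_resO, res_res] at e1 e2
      exact e1.trans e2.symm)
  refine ⟨z, ?_⟩
  apply Groth.Agent.Sga67.Sec.eq_of_locally
  intro x hx
  refine ⟨W x hx, hW x hx, hxW x hx, ?_⟩
  rw [res_smul, ← hy x hx]
  congr 1
  exact hz ⟨x, hx⟩

end Div

section Eqs

variable {X : Scheme.{u}} {r : ℕ} (D : Fin r → X.IdealSheafData)

/-- Equations of the `D i` on an open subset. -/
def Eqs (U : X.Opens) (t : Fin r → Γ(X, U)) : Prop :=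
  ∀ (W : X.affineOpens) (h : W.1 ≤ U) (i : Fin r), (D i).ideal W = Ideal.span {resO X h (t i)}

variable {D}

theorem Eqs.res {U V : X.Opens} {t : Fin r → Γ(X, U)} (h : Eqs D U t) (hV : V ≤ U) :
    Eqs D V (fun i => resO X hV (t i)) := by
  intro W hW i
  rw [h W (hW.trans hV) i]
  simp only [resO_resO]

theorem eqs_of_affine (U : X.affineOpens) {t : Fin r → Γ(X, U.1)}
    (h : ∀ i, (D i).ideal U = Ideal.span {t i}) : Eqs D U.1 t := by
  intro W hW i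
  rw [← (D i).map_ideal (U := W) (V := U) hW, h, Ideal.map_span, Set.image_singleton]
  rfl

theorem Eqs.ideal (U : X.affineOpens) {t : Fin r → Γ(X, U.1)} (h : Eqs D U.1 t) (i : Fin r) :
    (D i).ideal U = Ideal.span {t i} := by
  rw [h U le_rfl i, resO_self]

theorem resO_app {X X' : Scheme.{u}} (g : X' ⟶ X) {U : X.Opens} {V : X.Opens} (e : V ≤ U)
    (e' : g ⁻¹ᵁ V ≤ g ⁻¹ᵁ U) (a : Γ(X, U)) : resO X' e' (g.app U a : Γ(X', g ⁻¹ᵁ U)) = g.app V (resO X e a) := by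
  have := g.naturality (homOfLE e).op
  exact congr($this a).symm

theorem resO_app' {X X' : Scheme.{u}} (g : X' ⟶ X) {U : X.Opens} {V' : X'.Opens} (e : V' ≤ g ⁻¹ᵁ U)
    (a : Γ(X, U)) : resO X' e (g.app U a : Γ(X', g ⁻¹ᵁ U)) = g.appLE U V' e a := rfl

/-- Pull-back of equations. -/
theorem Eqs.comap {X' : Scheme.{u}} (g : X' ⟶ X) {U : X.Opens} {t : Fin r → Γ(X, U)} (h : Eqs D U t) :
    Eqs (fun i => (D i).comap g) (g ⁻¹ᵁ U) (fun i => (g.app U (t i) : Γ(X', g ⁻¹ᵁ U))) := by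
  intro W' hW' i
  refine ideal_eq_span_of_local W' _ fun x hx => ?_
  obtain ⟨V, V', hfx, hxV', hV', hVU, eV⟩ := exists_affine_le g x W'.1 hx U (hW' hx)
  refine ⟨V', hV', hxV', ?_⟩
  rw [ideal_comap _ g V V' eV, h V hVU i, Ideal.map_span, Set.image_singleton]
  congr 2
  change g.appLE V.1 V'.1 eV (X.presheaf.map (homOfLE hVU).op (t i)) =
    resO X' hV' (resO X' hW' (g.app U (t i) : Γ(X', g ⁻¹ᵁ U)))
  rw [resO_resO, resO_app']
  change (X.presheaf.map (homOfLE hVU).op ≫ g.appLE V.1 V'.1 eV) (t i) = _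
  rw [Scheme.Hom.map_appLE]

end Eqs

section Log

variable {X S : Scheme.{u}} {f : X ⟶ S} {Ω : X.Modules} {d : OmegaSh.Der f Ω} {r : ℕ}
  {D : Fin r → X.IdealSheafData}

theorem exists_affine_mem_le (U : X.Opens) (x : X) (hx : x ∈ U) :
    ∃ V : X.affineOpens, x ∈ V.1 ∧ V.1 ≤ U := by
  obtain ⟨V, hV, hxV, hVU⟩ := exists_isAffineOpen_mem_and_subset (U := U) (x := x) hx
  exact ⟨⟨V, hV⟩, hxV, hVU⟩

/-- A log module has no torsion. -/
theorem eq_zero_of_smul (Λ : LogNCD.LogMod d D) (V : X.Opens) {t : Fin r → Γ(X, V)} (ht : Eqs D V t)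
    (s : Sec Λ.L V) (hs : (∏ i, t i) • s = 0) : s = 0 := by
  apply Groth.Agent.Sga67.Sec.eq_of_locally
  intro x hx
  obtain ⟨W, hxW, hW⟩ := exists_affine_mem_le V x hx
  refine ⟨W.1, hW, hxW, ?_⟩
  rw [map_zero]
  refine (Λ.rule W _ (fun i => ht W hW i)).1 _ ?_
  have := congrArg (res Λ.L hW) hs
  rw [res_smul, map_prod, map_zero] at this
  exact this

theorem eq_of_smul (Λ : LogNCD.LogMod d D) (V : X.Opens) {t : Fin r → Γ(X, V)} (ht : Eqs D V t)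
    (s s' : Sec Λ.L V) (hs : (∏ i, t i) • s = (∏ i, t i) • s') : s = s' := by
  rw [← sub_eq_zero]
  apply eq_zero_of_smul Λ V ht
  rw [smul_sub, hs, sub_self]

/-- The logarithmic differentials of the equations exist on every open with equations. -/
theorem exists_dl (Λ : LogNCD.LogMod d D) (V : X.Opens) {t : Fin r → Γ(X, V)} (ht : Eqs D V t)
    (i : Fin r) : ∃ y : Sec Λ.L V, t i • y = appS Λ.ι V (dS d V (t i)) := by
  have key : ∀ x ∈ V, ∃ (W : X.Opens) (h : W ≤ V), x ∈ W ∧ ∃ y : Sec Λ.L W,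
      resO X h (t i) • y = appS Λ.ι W (dS d W (resO X h (t i))) := by
    intro x hx
    obtain ⟨W, hxW, hW⟩ := exists_affine_mem_le V x hx
    obtain ⟨-, dl, h1, -⟩ := Λ.rule W _ (fun i => ht W hW i)
    exact ⟨W.1, hW, hxW, dl i, h1 i⟩
  have hprod : ∀ (W : X.Opens) (h : W ≤ V), resO X h (∏ j, t j) =
      (∏ j ∈ Finset.univ.erase i, resO X h (t j)) * resO X h (t i) := by
    intro W h
    rw [map_prod, Finset.prod_erase_mul _ _ (Finset.mem_univ i)]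
  obtain ⟨y, hy⟩ := exists_div Λ.L V (∏ j, t j) (by
      intro W h s hs
      refine eq_zero_of_smul Λ W (ht.res h) s ?_
      rw [map_prod] at hs
      exact hs) ((∏ j ∈ Finset.univ.erase i, t j) • appS Λ.ι V (dS d V (t i))) (by
      intro x hx
      obtain ⟨W, h, hxW, y, hy⟩ := key x hx
      refine ⟨W, h, hxW, y, ?_⟩
      rw [hprod, mul_smul, hy, res_smul, map_prod, ← appS_res, dS_res])
  refine ⟨y, ?_⟩
  apply eq_of_smul Λ V ht
  rw [smul_comm, hy]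
  rw [← mul_smul, mul_comm, Finset.prod_erase_mul _ _ (Finset.mem_univ i)]

end Log

section Map

variable {X S X' S' : Scheme.{u}} {f : X ⟶ S} {f' : X' ⟶ S'} {g : X' ⟶ X} {b : S' ⟶ S}
  (w : f' ≫ b = g ≫ f)
  {Ω : X.Modules} {d : OmegaSh.Der f Ω} (hd : OmegaSh.IsUniversal d)
  {Ω' : X'.Modules} (d' : OmegaSh.Der f' Ω') {r : ℕ} {D : Fin r → X.IdealSheafData}

/-- The map `Ω ⟶ g_* Ω'`. -/
noncomputable def tau : Ω ⟶ (Scheme.Modules.pushforward g).obj Ω' := univLift hd (pushDer w d')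

/-- The map `Ω ⟶ g_* Ω'` on sections. -/
noncomputable def tauS (U : X.Opens) : Sec Ω U →+ Sec Ω' (g ⁻¹ᵁ U) :=
  (appS (tau w hd d') U).toAddMonoidHom

theorem tauS_smul (U : X.Opens) (a : Γ(X, U)) (s : Sec Ω U) :
    tauS w hd d' U (a • s) = (g.app U a : Γ(X', g ⁻¹ᵁ U)) • tauS w hd d' U s :=
  (appS (tau w hd d') U).map_smul a s

theorem tauS_d (U : X.Opens) (a : Γ(X, U)) :
    tauS w hd d' U (dS d U a) = dS d' (g ⁻¹ᵁ U) (g.app U a) :=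
  univLift_app hd (pushDer w d') U a

theorem tauS_res {U V : X.Opens} (h : V ≤ U) (h' : g ⁻¹ᵁ V ≤ g ⁻¹ᵁ U) (s : Sec Ω U) :
    tauS w hd d' V (res Ω h s) = res Ω' h' (tauS w hd d' U s) :=
  appS_res (tau w hd d') h s

variable (Λ : LogNCD.LogMod d D) (Λ' : LogNCD.LogMod d' (fun i => (D i).comap g))

/-- `y` is the image of `x`. -/
def IsComp (U : X.Opens) (t : Fin r → Γ(X, U)) (x : Sec Λ.L U) (y : Sec Λ'.L (g ⁻¹ᵁ U)) : Prop :=
  ∃ ω : Sec Ω U, (∏ i, t i) • x = appS Λ.ι U ω ∧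
    (g.app U (∏ i, t i) : Γ(X', g ⁻¹ᵁ U)) • y = appS Λ'.ι (g ⁻¹ᵁ U) (tauS w hd d' U ω)

variable {w hd d' Λ Λ'}

theorem app_prod (g : X' ⟶ X) (U : X.Opens) (t : Fin r → Γ(X, U)) :
    (g.app U (∏ i, t i) : Γ(X', g ⁻¹ᵁ U)) = ∏ i, (g.app U (t i) : Γ(X', g ⁻¹ᵁ U)) := by
  exact map_prod (g.app U).hom _ _

theorem IsComp.unique {U : X.Opens} {t t' : Fin r → Γ(X, U)} (ht : Eqs D U t) (ht' : Eqs D U t')
    {x : Sec Λ.L U} {y y' : Sec Λ'.L (g ⁻¹ᵁ U)} (h : IsComp w hd d' Λ Λ' U t x y)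
    (h' : IsComp w hd d' Λ Λ' U t' x y') : y = y' := by
  obtain ⟨ω, h1, h2⟩ := h
  obtain ⟨ω', h1', h2'⟩ := h'
  have hm := Λ.mono
  have e1 : (∏ i, t' i) • ω = (∏ i, t i) • ω' := by
    apply injective_of_mono Λ.ι U
    rw [map_smul, map_smul, ← h1, ← h1', smul_comm]
  have e2 := congrArg (tauS w hd d' U) e1
  rw [tauS_smul, tauS_smul] at e2
  have e3 := congrArg (appS Λ'.ι (g ⁻¹ᵁ U)) e2
  rw [map_smul, map_smul, ← h2, ← h2'] at e3
  apply eq_of_smul Λ' _ (ht.comap g)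
  apply eq_of_smul Λ' _ (ht'.comap g)
  rw [← app_prod, ← app_prod, e3, smul_comm]

theorem IsComp.res {U V : X.Opens} (h : V ≤ U) (h' : g ⁻¹ᵁ V ≤ g ⁻¹ᵁ U) {t : Fin r → Γ(X, U)}
    {x : Sec Λ.L U} {y : Sec Λ'.L (g ⁻¹ᵁ U)} (H : IsComp w hd d' Λ Λ' U t x y) :
    IsComp w hd d' Λ Λ' V (fun i => resO X h (t i)) (res Λ.L h x) (res Λ'.L h' y) := by
  obtain ⟨ω, h1, h2⟩ := H
  refine ⟨Groth.Agent.Sga67.Sec.res Ω h ω, ?_, ?_⟩
  · rw [← map_prod, ← res_smul, h1, appS_res]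
  · rw [← map_prod, ← resO_app g h h', ← res_smul, h2, tauS_res w hd d' h h', appS_res]

theorem IsComp.add {U : X.Opens} {t : Fin r → Γ(X, U)} {x₁ x₂ : Sec Λ.L U}
    {y₁ y₂ : Sec Λ'.L (g ⁻¹ᵁ U)} (h₁ : IsComp w hd d' Λ Λ' U t x₁ y₁)
    (h₂ : IsComp w hd d' Λ Λ' U t x₂ y₂) : IsComp w hd d' Λ Λ' U t (x₁ + x₂) (y₁ + y₂) := by
  obtain ⟨ω₁, a₁, b₁⟩ := h₁
  obtain ⟨ω₂, a₂, b₂⟩ := h₂
  refine ⟨ω₁ + ω₂, ?_, ?_⟩
  · rw [smul_add, a₁, a₂, map_add]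
  · rw [smul_add, b₁, b₂, map_add, map_add]

theorem IsComp.smul {U : X.Opens} {t : Fin r → Γ(X, U)} (a : Γ(X, U)) {x : Sec Λ.L U}
    {y : Sec Λ'.L (g ⁻¹ᵁ U)} (h : IsComp w hd d' Λ Λ' U t x y) :
    IsComp w hd d' Λ Λ' U t (a • x) ((g.app U a : Γ(X', g ⁻¹ᵁ U)) • y) := by
  obtain ⟨ω, a₁, b₁⟩ := h
  refine ⟨a • ω, ?_, ?_⟩
  · rw [smul_comm, a₁, map_smul]
  · rw [smul_comm, b₁, tauS_smul, map_smul]

theorem isComp_ι {U : X.Opens} (t : Fin r → Γ(X, U)) (ω : Sec Ω U) :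
    IsComp w hd d' Λ Λ' U t (appS Λ.ι U ω) (appS Λ'.ι (g ⁻¹ᵁ U) (tauS w hd d' U ω)) :=
  ⟨(∏ i, t i) • ω, by rw [map_smul], by rw [tauS_smul, map_smul]⟩

theorem isComp_dl {U : X.Opens} {t : Fin r → Γ(X, U)} (i : Fin r)
    {x : Sec Λ.L U} (hx : t i • x = appS Λ.ι U (dS d U (t i))) {y : Sec Λ'.L (g ⁻¹ᵁ U)}
    (hy : (g.app U (t i) : Γ(X', g ⁻¹ᵁ U)) • y =
      appS Λ'.ι (g ⁻¹ᵁ U) (dS d' (g ⁻¹ᵁ U) (g.app U (t i)))) :
    IsComp w hd d' Λ Λ' U t x y := by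
  refine ⟨(∏ j ∈ Finset.univ.erase i, t j) • dS d U (t i), ?_, ?_⟩
  · rw [map_smul, ← hx, ← mul_smul, Finset.prod_erase_mul _ _ (Finset.mem_univ i)]
  · rw [tauS_smul, map_smul, tauS_d, ← hy, ← mul_smul]
    congr 1
    rw [← Finset.prod_erase_mul _ _ (Finset.mem_univ i)]
    exact map_mul (g.app U).hom _ _

/-- Existence of the image on affine opens with equations. -/
theorem exists_isComp (U : X.affineOpens) {t : Fin r → Γ(X, U.1)} (ht : Eqs D U.1 t)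
    (x : Sec Λ.L U.1) : ∃ y, IsComp w hd d' Λ Λ' U.1 t x y := by
  obtain ⟨-, dl, h1, h2, -⟩ := Λ.rule U t (fun i => Eqs.ideal U ht i)
  have hx : x ∈ Submodule.span Γ(X, U.1) (Set.range ((Λ.ι.val.app (op U.1)).hom) ∪ Set.range dl) := by
    rw [h2]; trivial
  induction hx using Submodule.span_induction with
  | mem x hx =>
    rcases hx with ⟨ω, rfl⟩ | ⟨i, rfl⟩
    · exact ⟨_, isComp_ι t ω⟩
    · obtain ⟨y, hy⟩ := exists_dl Λ' (g ⁻¹ᵁ U.1) (ht.comap g) i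
      exact ⟨y, isComp_dl i (h1 i) hy⟩
  | zero => exact ⟨0, 0, by rw [smul_zero, map_zero], by rw [smul_zero, map_zero, map_zero]⟩
  | add x y _ _ hx hy =>
    obtain ⟨x', hx'⟩ := hx
    obtain ⟨y', hy'⟩ := hy
    exact ⟨_, hx'.add hy'⟩
  | smul a x _ hx =>
    obtain ⟨x', hx'⟩ := hx
    exact ⟨_, hx'.smul a⟩

variable (w hd d' Λ Λ') in
/-- The comparison `Λ.L ⟶ g_* Λ'.L`. -/
theorem exists_psi (hD : LogNCD.IsNCD D f) : ∃ ψ : Λ.L ⟶ (Scheme.Modules.pushforward g).obj Λ'.L,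
    ∀ (U : X.affineOpens) (t : Fin r → Γ(X, U.1)) (_ : Eqs D U.1 t) (x : Sec Λ.L U.1),
      IsComp w hd d' Λ Λ' U.1 t x (show Sec Λ'.L (g ⁻¹ᵁ U.1) from appS ψ U.1 x) := by
  let I := {U : X.affineOpens // ∃ t : Fin r → Γ(X, U.1), Eqs D U.1 t}
  let B : I → X.Opens := fun U => U.1.1
  have hB : Opens.IsBasis (Set.range B) := by
    rw [Opens.isBasis_iff_nbhd]
    intro O x hx
    obtain ⟨U, t, hxU, hUO, h1, -⟩ := Ncd.exists_equations hD x O hx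
    exact ⟨U.1, ⟨⟨U, t, eqs_of_affine U h1⟩, rfl⟩, hxU, hUO⟩
  choose T hT using fun U : I => U.2
  choose Y hY using fun (U : I) (x : Sec Λ.L U.1.1) =>
    exists_isComp (w := w) (hd := hd) (Λ := Λ) (Λ' := Λ') (d' := d') U.1 (hT U) x
  obtain ⟨ψ, hψ⟩ := exists_hom_of_basis' hB Λ.L ((Scheme.Modules.pushforward g).obj Λ'.L)
    (fun U =>
      { toFun := fun x => Y U x
        map_add' := fun x y => (hY U (x + y)).unique (hT U) (hT U) ((hY U x).add (hY U y))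
        map_smul' := fun a x => (hY U (a • x)).unique (hT U) (hT U) ((hY U x).smul a) })
    (by
      intro U V h x
      exact (hY V _).unique (hT V) ((hT U).res h) ((hY U x).res h (g.preimage_mono h)))
  refine ⟨ψ, fun U t ht x => ?_⟩
  let U' : I := ⟨U, t, ht⟩
  have h1 : (show Sec Λ'.L (g ⁻¹ᵁ U.1) from appS ψ U.1 x) = Y U' x := hψ U' x
  rw [h1]
  obtain ⟨y, hy⟩ := exists_isComp (w := w) (hd := hd) (Λ := Λ) (Λ' := Λ') (d' := d') U ht x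
  have h2 : Y U' x = y := (hY U' x).unique (hT U') ht hy
  rw [h2]
  exact hy

variable (w hd d' Λ Λ') in
/-- **The comparison map** `c : g^* Λ.L ⟶ Λ'.L`. -/
theorem exists_comp (hD : LogNCD.IsNCD D f) :
    ∃ c : (Scheme.Modules.pullback g).obj Λ.L ⟶ Λ'.L,
    ∀ (U : X.affineOpens) (t : Fin r → Γ(X, U.1)) (_ : Eqs D U.1 t) (x : Sec Λ.L U.1),
      IsComp w hd d' Λ Λ' U.1 t x (appS c (g ⁻¹ᵁ U.1) (pbS g Λ.L x)) := by
  obtain ⟨ψ, hψ⟩ := exists_psi w hd d' Λ Λ' hD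
  refine ⟨Groth.Agent.Krr.H487.LocBasisPull.adj g ψ, fun U t ht x => ?_⟩
  rw [adj_pbS]
  exact hψ U t ht x

/-- The comparison map on forms without poles. -/
theorem comp_ι (hD : LogNCD.IsNCD D f) {c : (Scheme.Modules.pullback g).obj Λ.L ⟶ Λ'.L}
    (hc : ∀ (U : X.affineOpens) (t : Fin r → Γ(X, U.1)) (_ : Eqs D U.1 t) (x : Sec Λ.L U.1),
      IsComp w hd d' Λ Λ' U.1 t x (appS c (g ⁻¹ᵁ U.1) (pbS g Λ.L x))) (U : X.Opens) (ω : Sec Ω U) :
    appS c (g ⁻¹ᵁ U) (pbS g Λ.L (appS Λ.ι U ω)) = appS Λ'.ι (g ⁻¹ᵁ U) (tauS w hd d' U ω) := by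
  apply Groth.Agent.Sga67.Sec.eq_of_locally
  intro x' hx'
  obtain ⟨V, t, hxV, hVU, h1, -⟩ := Ncd.exists_equations hD (g x') U hx'
  have ht := eqs_of_affine V h1
  refine ⟨g ⁻¹ᵁ V.1, g.preimage_mono hVU, hxV, ?_⟩
  rw [← appS_res, res_pbS g Λ.L hVU, ← appS_res, ← appS_res, ← tauS_res w hd d' hVU]
  exact (hc V t ht _).unique ht ht (isComp_ι t _)

theorem appLE_eq (g : X' ⟶ X) {U : X.Opens} {V' : X'.Opens} (e : V' ≤ g ⁻¹ᵁ U) (a : Γ(X, U)) :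
    g.appLE U V' e a = resO X' e (g.app U a : Γ(X', g ⁻¹ᵁ U)) := rfl

open Groth.Agent.Sga67.LocBasis in
/-- The comparison map is an isomorphism if it matches local bases. -/
theorem isIso_comp {c : (Scheme.Modules.pullback g).obj Λ.L ⟶ Λ'.L}
    (hc : ∀ (U : X.Opens) (ω : Sec Ω U),
      appS c (g ⁻¹ᵁ U) (pbS g Λ.L (appS Λ.ι U ω)) = appS Λ'.ι (g ⁻¹ᵁ U) (tauS w hd d' U ω))
    (H : ∀ (x' : X') (O' : X'.Opens), x' ∈ O' → ∃ (U : X.Opens) (V' : X'.Opens) (e : V' ≤ g ⁻¹ᵁ U),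
      x' ∈ V' ∧ V' ≤ O' ∧ ∃ (κ : Type) (_ : Fintype κ) (v h : κ → Γ(X, U)) (t : Fin r → Γ(X, U))
        (ω : κ → Sec Λ.L U) (ω' : κ → Sec Λ'.L V'), Eqs D U t ∧ (∀ k, h k ∣ ∏ i, t i) ∧
        IsLocBasis ω ∧ IsLocBasis ω' ∧ (∀ k, h k • ω k = appS Λ.ι U (dS d U (v k))) ∧
        (∀ k, g.appLE U V' e (h k) • ω' k =
          appS Λ'.ι V' (dS d' V' (g.appLE U V' e (v k))))) : IsIso c := by
  apply isIso_of_bijective
  intro x' O' hx'
  obtain ⟨U, V', e, hxV, hVO, κ, _, v, h, t, ω, ω', ht, hdvd, hω, hω', h1, h2⟩ := H x' O' hx'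
  refine ⟨V', hVO, hxV, ?_⟩
  refine Groth.Agent.Krr.H487.ExtPull.bijective_of_locBasis c ((isLocBasis_pbS g hω).restrict e) hω'
    (fun k => ?_) le_rfl
  apply eq_of_smul Λ' V' ((ht.comap g).res e)
  obtain ⟨a, ha⟩ := hdvd k
  have h3 : ∏ i, resO X' e (g.app U (t i) : Γ(X', g ⁻¹ᵁ U)) =
      resO X' e (g.app U a : Γ(X', g ⁻¹ᵁ U)) * g.appLE U V' e (h k) := by
    rw [← map_prod, ← app_prod, ha, appLE_eq, ← map_mul]
    congr 1
    rw [mul_comm]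
    exact map_mul (g.app U).hom _ _
  rw [h3, mul_smul, mul_smul, h2]
  congr 1
  rw [appLE_eq, appS_res, ← res_smul, ← map_smul, ← pbS_smul, h1, hc, tauS_d, ← appS_res, dS_res]
  rfl

end Map

end K911.LogBC
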