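import Groth.Agent.LogNCD.K922.LogBasis
import Groth.Agent.Vanish.K911.LogBC
import Mathlib.RingTheory.TensorProduct.MvPolynomial
import Mathlib.AlgebraicGeometry.Morphisms.Flat

/-!
# Base change of étale coordinates and of charts
-/

set_option autoImplicit false
universe u

open CategoryTheory CategoryTheory.Limits AlgebraicGeometry TopologicalSpace Opposite

namespace K911.CoordBC

open Groth.Agent.Sga67.Sec K922.Coord K922.Chart

attribute [local instance] MvPolynomial.algebraMvPolynomial in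
/-- Base change of an étale algebra over a polynomial ring. -/
theorem etale_bc {A B A' B' : Type u} [CommRing A] [CommRing B] [CommRing A'] [CommRing B']
    [Algebra A B] [Algebra A A'] [Algebra A B'] [Algebra B B'] [Algebra A' B']
    [IsScalarTower A B B'] [IsScalarTower A A' B'] [hpo : Algebra.IsPushout A A' B B'] {σ : Type}
    (v : σ → B) (het : (MvPolynomial.eval₂Hom (algebraMap A B) v).Etale) :
    (MvPolynomial.eval₂Hom (algebraMap A' B') (fun j => algebraMap B B' (v j))).Etale := by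
  let _ : Algebra (MvPolynomial σ A) B := (MvPolynomial.eval₂Hom (algebraMap A B) v).toAlgebra
  let _ : Algebra (MvPolynomial σ A') B' :=
    (MvPolynomial.eval₂Hom (algebraMap A' B') (fun j => algebraMap B B' (v j))).toAlgebra
  let _ : Algebra (MvPolynomial σ A) B' :=
    ((algebraMap B B').comp (MvPolynomial.eval₂Hom (algebraMap A B) v)).toAlgebra
  have t1 : IsScalarTower A (MvPolynomial σ A) B := IsScalarTower.of_algebraMap_eq fun a => by
    change _ = MvPolynomial.eval₂Hom (algebraMap A B) v (MvPolynomial.C a)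
    simp
  have t2 : IsScalarTower A' (MvPolynomial σ A') B' := IsScalarTower.of_algebraMap_eq fun a => by
    change _ = MvPolynomial.eval₂Hom (algebraMap A' B') _ (MvPolynomial.C a)
    simp
  have t3 : IsScalarTower (MvPolynomial σ A) B B' := IsScalarTower.of_algebraMap_eq fun a => rfl
  have t4 : IsScalarTower (MvPolynomial σ A) (MvPolynomial σ A') B' := by
    refine IsScalarTower.of_algebraMap_eq' ?_
    apply MvPolynomial.ringHom_ext
    · intro a
      change algebraMap B B' (MvPolynomial.eval₂Hom (algebraMap A B) v (MvPolynomial.C a)) =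
        MvPolynomial.eval₂Hom (algebraMap A' B') _ (MvPolynomial.map (algebraMap A A') (MvPolynomial.C a))
      simp only [MvPolynomial.eval₂Hom_C, MvPolynomial.map_C]
      rw [← IsScalarTower.algebraMap_apply A B B', ← IsScalarTower.algebraMap_apply A A' B']
    · intro j
      change algebraMap B B' (MvPolynomial.eval₂Hom (algebraMap A B) v (MvPolynomial.X j)) =
        MvPolynomial.eval₂Hom (algebraMap A' B') _ (MvPolynomial.map (algebraMap A A') (MvPolynomial.X j))
      simp
  have t5 : IsScalarTower A (MvPolynomial σ A') B' := IsScalarTower.of_algebraMap_eq fun a => by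
    rw [IsScalarTower.algebraMap_apply A A' (MvPolynomial σ A'),
      ← IsScalarTower.algebraMap_apply A' (MvPolynomial σ A') B', ← IsScalarTower.algebraMap_apply A A' B']
  have h1 : Algebra.IsPushout A (MvPolynomial σ A) A' (MvPolynomial σ A') := inferInstance
  have h2 : Algebra.IsPushout A B A' B' := hpo.symm
  have h3 : Algebra.IsPushout (MvPolynomial σ A) B (MvPolynomial σ A') B' :=
    (Algebra.IsPushout.comp_iff A (MvPolynomial σ A) A' (MvPolynomial σ A')).1 h2
  exact RingHom.Etale.isStableUnderBaseChange (MvPolynomial σ A) B (MvPolynomial σ A') B' het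

variable {X S X' S' : Scheme.{u}} {f : X ⟶ S} {f' : X' ⟶ S'} {g : X' ⟶ X} {b : S' ⟶ S}

theorem isPushout_appLE (sq : IsPullback g f' f b) {W : X.Opens} (hW : IsAffineOpen W) {V : S.Opens}
    (hV : IsAffineOpen V) {V' : S'.Opens} (hV' : IsAffineOpen V') (e : W ≤ f ⁻¹ᵁ V) (e' : V' ≤ b ⁻¹ᵁ V) :
    IsPushout (f.appLE V W e) (b.appLE V V' e')
      (g.appLE W (g ⁻¹ᵁ W ⊓ f' ⁻¹ᵁ V') inf_le_left)
      (f'.appLE V' (g ⁻¹ᵁ W ⊓ f' ⁻¹ᵁ V') inf_le_right) :=
  (isIso_pushoutSection_iff sq e' e rfl).1 (isIso_pushoutSection_of_isAffineOpen sq e' e rfl hV hV' hW)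

theorem isAffineOpen_inf (sq : IsPullback g f' f b) {W : X.Opens} (hW : IsAffineOpen W) {V : S.Opens}
    (hV : IsAffineOpen V) {V' : S'.Opens} (hV' : IsAffineOpen V') (e : W ≤ f ⁻¹ᵁ V) (e' : V' ≤ b ⁻¹ᵁ V) :
    IsAffineOpen (g ⁻¹ᵁ W ⊓ f' ⁻¹ᵁ V') := by
  have : IsAffine _ := hW
  have : IsAffine _ := hV
  have : IsAffine _ := hV'
  exact .of_isIso (Scheme.Hom.isPullback_resLE sq e' e rfl).isoPullback.hom

/-- Étale coordinates are stable under base change. -/
theorem isCoord_bc (sq : IsPullback g f' f b) {U : X.Opens} {σ : Type} {v : σ → Γ(X, U)}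
    (hv : IsCoord f U v) : IsCoord f' (g ⁻¹ᵁ U) (fun j => (g.app U (v j) : Γ(X', g ⁻¹ᵁ U))) := by
  intro x' O' hO' hx'
  obtain ⟨W, hWU, V, e, -, hxW, het⟩ := hv (g x') U le_rfl (hO' hx')
  have hfx : f' x' ∈ b ⁻¹ᵁ V.1 := by
    have h1 : b (f' x') = f (g x') := by
      rw [← Scheme.Hom.comp_apply, ← Scheme.Hom.comp_apply, sq.w]
    change b (f' x') ∈ V.1
    rw [h1]
    exact e hxW
  obtain ⟨V', hV', hxV', eV'⟩ := exists_isAffineOpen_mem_and_subset hfx
  have eV : V' ≤ b ⁻¹ᵁ V.1 := eV'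
  set W' : X'.Opens := g ⁻¹ᵁ W.1 ⊓ f' ⁻¹ᵁ V' with hW'
  have hpo := isPushout_appLE sq W.2 V.2 hV' e eV
  have hW'a : IsAffineOpen W' := isAffineOpen_inf sq W.2 V.2 hV' e eV
  have hleU : W' ≤ g ⁻¹ᵁ U := inf_le_left.trans (g.preimage_mono hWU)
  have h2 : (MvPolynomial.eval₂Hom (f'.appLE V' W' inf_le_right).hom
      (fun j => resO X' hleU (g.app U (v j) : Γ(X', g ⁻¹ᵁ U)))).Etale := by
    let _ := (f.appLE V.1 W.1 e).hom.toAlgebra
    let _ := (b.appLE V.1 V' eV).hom.toAlgebra
    let _ := (g.appLE W.1 W' inf_le_left).hom.toAlgebra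
    let _ := (f'.appLE V' W' inf_le_right).hom.toAlgebra
    let _ := (f.appLE V.1 W.1 e ≫ g.appLE W.1 W' inf_le_left).hom.toAlgebra
    have t1 : IsScalarTower Γ(S, V.1) Γ(X, W.1) Γ(X', W') := IsScalarTower.of_algebraMap_eq' rfl
    have t2 : IsScalarTower Γ(S, V.1) Γ(S', V') Γ(X', W') := IsScalarTower.of_algebraMap_eq' (by
      change (f.appLE V.1 W.1 e ≫ g.appLE W.1 W' inf_le_left).hom = _
      rw [hpo.w]
      rfl)
    have h3 : Algebra.IsPushout Γ(S, V.1) Γ(S', V') Γ(X, W.1) Γ(X', W') :=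
      (CommRingCat.isPushout_iff_isPushout).1 hpo.flip
    have h4 := etale_bc (A := Γ(S, V.1)) (B := Γ(X, W.1)) (A' := Γ(S', V')) (B' := Γ(X', W'))
      (fun j => resO X hWU (v j)) het
    have h5 : (fun j => algebraMap Γ(X, W.1) Γ(X', W') (resO X hWU (v j))) =
        (fun j => resO X' hleU (g.app U (v j) : Γ(X', g ⁻¹ᵁ U))) := by
      funext j
      change g.appLE W.1 W' inf_le_left (X.presheaf.map (homOfLE hWU).op (v j)) = g.appLE U W' hleU (v j)
      change (X.presheaf.map (homOfLE hWU).op ≫ g.appLE W.1 W' inf_le_left) (v j) = _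
      rw [Scheme.Hom.map_appLE]
    rw [← h5]
    exact h4
  obtain ⟨W'', h6, V'', e'', h7, hx'', h8⟩ := isCoord_of_ring f' ⟨W', hW'a⟩ ⟨V', hV'⟩ inf_le_right _ h2
    x' (O' ⊓ W') inf_le_right ⟨hx', hxW, hxV'⟩
  refine ⟨W'', h6.trans hleU, V'', e'', h7.trans inf_le_left, hx'', ?_⟩
  simpa only [resO_resO] using h8

open K911.LogBC in
/-- The inverse image of a chart. -/
noncomputable def chart_bc (sq : IsPullback g f' f b) {r : ℕ} {D : Fin r → X.IdealSheafData}
    {U : X.Opens} {n : ℕ} (c : Chart f D U n) :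
    Chart f' (fun i => (D i).comap g) (g ⁻¹ᵁ U) n where
  v k := (g.app U (c.v k) : Γ(X', g ⁻¹ᵁ U))
  e := c.e
  g i := (g.app U (c.g i) : Γ(X', g ⁻¹ᵁ U))
  coord := isCoord_bc sq c.coord
  inj := c.inj
  g_none i hi := by rw [c.g_none i hi]; exact map_one (g.app U).hom
  g_some i k hi := by rw [c.g_some i k hi]
  ideal i V h := by
    have h1 : Eqs D U c.g := fun W hW i => c.ideal i W hW
    exact h1.comap g V h i

end K911.CoordBC
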