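import Groth.Agent.Vanish.K911.Transfer

/-!
# The inequality in characteristic zero
-/

set_option autoImplicit false
universe u
open CategoryTheory CategoryTheory.Limits AlgebraicGeometry

namespace K911.Transfer

open Groth.Agent Groth.Agent.Fga.PicMon Groth.Agent.Pic13.H11.Cls K911.DivCls K911.PullM K911.Akn
open K890.Spread K890.Model K890.Generic K890.Fibres K890.Polarized K890.Stage K890.NcdModel

section Base

variable {S : Scheme.{u}} {X₀ : Scheme.{u}} (f₀ : X₀ ⟶ S) [Smooth f₀] {r : ℕ} {D₀ : Fin r → X₀.IdealSheafData}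
  (hD : LogNCD.IsNCD D₀ f₀)

include hD in
/-- The exterior powers of the sheaf of logarithmic differentials. -/
theorem exists_logPows :
    ∃ (Ω₀ : X₀.Modules) (d₀ : OmegaSh.Der f₀ Ω₀) (_ : OmegaSh.IsUniversal d₀) (Λ₀ : LogNCD.LogMod d₀ D₀)
      (La₀ : ℕ → X₀.Modules), (∀ a, ExtPow.IsExtPow a Λ₀.L (La₀ a)) ∧ ∀ a, Coh.IsCoh (La₀ a) := by
  obtain ⟨Ω₀, d₀, hd₀⟩ := K583.ExistsUniv.exists_isUniversal f₀
  obtain ⟨Λ₀⟩ := K922.LogExist.exists_logMod hd₀ hD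
  have hΛ : FlatMod.IsFinLocFree Λ₀.L := K922.LogBasis.isFinLocFree (K922.Univ.affUniv hd₀) hD Λ₀
  choose La₀ hLa₀ using fun a => Dual.H366.ExtQCoh.exists_isExtPow a (PerfA.QCohEpi.isQCoh_of_isFinLocFree hΛ)
  exact ⟨Ω₀, d₀, hd₀, Λ₀, La₀, hLa₀, fun a =>
    PerfA.CohSerre.isCoh_of_isFinLocFree (Sga67.LocBasis.isFinLocFree_of_isExtPow hΛ (hLa₀ a))⟩

end Base

/-- The sums of dimensions on a base change. -/
theorem S_pull {T : Scheme.{u}} {X₀ : Scheme.{u}} {f₀ : X₀ ⟶ T} [Smooth f₀] {r : ℕ}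
    {D₀ : Fin r → X₀.IdealSheafData} (hD : LogNCD.IsNCD D₀ f₀) {Ω₀ : X₀.Modules} {d₀ : OmegaSh.Der f₀ Ω₀}
    (hd₀ : OmegaSh.IsUniversal d₀) (Λ₀ : LogNCD.LogMod d₀ D₀) {La₀ : ℕ → X₀.Modules}
    (hLa₀ : ∀ a, ExtPow.IsExtPow a Λ₀.L (La₀ a))
    {κ : Type u} [Field κ] {X' : Scheme.{u}} [X'.Over (Spec (CommRingCat.of κ))] {q : X' ⟶ X₀}
    {b : Spec (CommRingCat.of κ) ⟶ T} (sq : IsPullback q (X' ↘ Spec (CommRingCat.of κ)) f₀ b)
    {Ω' : X'.Modules} {d' : OmegaSh.Der (X' ↘ Spec (CommRingCat.of κ)) Ω'} (hd' : OmegaSh.IsUniversal d')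
    (Λ' : LogNCD.LogMod d' (fun j => (D₀ j).comap q)) {La' : ℕ → X'.Modules}
    (hLa' : ∀ a, ExtPow.IsExtPow a Λ'.L (La' a)) (m : ℕ) (u : (MC X₀)ˣ) :
    S κ La' m (pullU q u) = ∑ a ∈ Finset.range (m + 1), h κ (m - a) (pullM q (u • mc (La₀ a))) := by
  refine Finset.sum_congr rfl fun a _ => ?_
  rw [pullM_smul, pullM_mc, mc_eq (Classical.choice
    (LogModBC.nonempty_iso_extPow sq hd₀ hd' hD Λ₀ Λ' (hLa₀ a) (hLa' a)))]

/-- **The inequality in characteristic zero.** -/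
theorem ineq_zero (hC : CoreP.{u}) {k : Type u} [Field k] [IsAlgClosed k] [CharZero k] {X : Scheme.{u}}
    [X.Over (Spec (CommRingCat.of k))] [IsProper (X ↘ Spec (CommRingCat.of k))]
    [Smooth (X ↘ Spec (CommRingCat.of k))] [IrreducibleSpace X] {n : ℕ} (hn : topologicalKrullDim X = n)
    {H : X.Modules} (hH : CohB1.IsAmple H)
    {r : ℕ} {D : Fin r → X.IdealSheafData} (hD : LogNCD.IsNCD D (X ↘ Spec (CommRingCat.of k)))
    {Ω' : X.Modules} {d : OmegaSh.Der (X ↘ Spec (CommRingCat.of k)) Ω'} (hd : OmegaSh.IsUniversal d)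
    (Λ : LogNCD.LogMod d D) {La : ℕ → X.Modules} (hLa : ∀ a, ExtPow.IsExtPow a Λ.L (La a))
    (hE : ∀ j, BlowUp.IsEffCartierIdeal (D j))
    {L : X.Modules} (hL : PicF.IsInvertible L) {N : ℕ} (hN : 0 < N) (cls : Fin r → Fin 3) (α : Fin r → ℕ)
    (hα : ∀ j, cls j = 0 → 0 < α j ∧ α j < N) (hα' : ∀ j, cls j ≠ 0 → α j = 0)
    (hLN : (unit hL : (MC X)ˣ) ^ N * ∏ j, dcl (hE j) ^ α j = 1) :
    Cd.Ineq k La (fun j => dcl (hE j)) cls (unit hL) := by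
  intro m ν hν1 hν2
  obtain ⟨S₀, hS, X₀, f₀, p, H₀, L₀, D₀, sq, _, _, hamp, hL₀, heL, hD₀, hncd⟩ :=
    exists_full_model (X ↘ Spec (CommRingCat.of k)) hH hL D hD
  obtain rfl : (fun j => (D₀ j).comap p) = D := funext hD₀
  obtain ⟨Ω₀, d₀, hd₀, Λ₀, La₀, hLa₀, hLc⟩ := exists_logPows f₀ hncd
  have hE₀ : ∀ j, BlowUp.IsEffCartierIdeal (D₀ j) := K911.Ncd.isEff_of_isNCD hncd
  have hδ : ∀ j, pullU p (dcl (hE₀ j)) = dcl (hE j) := fun j => pullU_dcl p _ _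
  have hl : pullU p (unit hL₀) = unit hL := pullU_unit p hL₀ hL heL
  have hρ : pullU p ((unit hL₀ : (MC X₀)ˣ) ^ N * ∏ j, dcl (hE₀ j) ^ α j) = 1 := by
    rw [map_mul, map_pow, hl, map_prod]
    simp only [map_pow, hδ]
    exact hLN
  let u₁ : (MC X₀)ˣ := (unit hL₀)⁻¹ * ∏ j ∈ Finset.univ.filter (fun j => cls j = 2), dcl (hE₀ j)
  let u₂ : (MC X₀)ˣ := (unit hL₀)⁻¹ * (∏ j ∈ Finset.univ.filter (fun j => cls j = 2), dcl (hE₀ j)) *
    (∏ j, dcl (hE₀ j) ^ ν j)⁻¹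
  let c : Fin 2 × Fin (m + 1) → MC X₀ := fun i => ![u₁, u₂] i.1 • mc (La₀ i.2)
  have hc : ∀ i, Co (c i) := fun i => Co.smul (show Co (mc (La₀ i.2)) from hLc i.2) _
  obtain ⟨ℓ, iℓ, κ, _, _, _, X', _, q, Xl, g, i, Dl, φ, hlt, Hq, _, _, _, hn', _, hi, hDl, hncd', hflat, hh,
    hρ'⟩ := exists_good hn hS sq hncd c hc hρ (m + N * ∑ j, ((ν j).natAbs + 1) + N)
  obtain ⟨Ω₁, d', hd', Λ', La', hLa', -⟩ := exists_logPows (X' ↘ Spec (CommRingCat.of κ)) hncd'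
  have hE' : ∀ j, BlowUp.IsEffCartierIdeal ((D₀ j).comap q) := K911.Ncd.isEff_of_isNCD hncd'
  have hδ' : ∀ j, pullU q (dcl (hE₀ j)) = dcl (hE' j) := fun j => pullU_dcl q _ _
  have key : ∀ t : Fin 2, S κ La' m (pullU q (![u₁, u₂] t)) = S k La m (pullU p (![u₁, u₂] t)) := by
    intro t
    rw [S_pull hncd hd₀ Λ₀ hLa₀ Hq hd' Λ' hLa', S_pull hncd hd₀ Λ₀ hLa₀ sq hd Λ hLa]
    refine Finset.sum_congr rfl fun a ha => ?_
    exact hh ⟨t, ⟨a, Finset.mem_range.1 ha⟩⟩ (m - a)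
  have core := coreFor hC ℓ κ X' _ (isAmple_bc hamp _ Hq) Xl g i hi _ hncd' Dl hDl hflat d' hd' Λ' La' hLa' hE'
  have hρ'' : (pullU q (unit hL₀)) ^ N * ∏ j, dcl (hE' j) ^ α j = 1 := by
    rw [map_mul, map_pow, map_prod] at hρ'
    simp only [map_pow, hδ'] at hρ'
    exact hρ'
  have hNℓ : Nat.Coprime N ℓ :=
    ((Nat.Prime.coprime_iff_not_dvd iℓ.out).2 fun h => by
      have := Nat.le_of_dvd hN h
      omega).symm
  have main := PicCalc.main (fun j => dcl (hE' j)) (pullU q (unit hL₀)) N hN ℓ iℓ.out hNℓ cls α hα hα' hρ''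
    (S κ La' m) (core m (by omega)) ν hν1 hν2 (fun j => by
      have h1 : (ν j).natAbs + 1 ≤ ∑ j, ((ν j).natAbs + 1) :=
        Finset.single_le_sum (f := fun j => (ν j).natAbs + 1) (fun _ _ => Nat.zero_le _) (Finset.mem_univ j)
      have h2 : N * ((ν j).natAbs + 1) ≤ ℓ := (Nat.mul_le_mul_left N h1).trans (by omega)
      have h3 : (((N * ((ν j).natAbs + 1) : ℕ)) : ℤ) ≤ (ℓ : ℤ) := by exact_mod_cast h2
      rw [Nat.cast_mul, Nat.cast_add, Int.natCast_natAbs, Nat.cast_one] at h3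
      exact h3)
  have e1 := key 0
  have e2 := key 1
  simp only [Matrix.cons_val_zero, Matrix.cons_val_one, u₁, u₂, map_mul, map_inv, map_prod, map_zpow, hl, hδ,
    hδ'] at e1 e2
  rw [e1, e2] at main
  exact main

end K911.Transfer
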