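import Groth.Agent.Vanish.K911.Ineq
import Groth.Agent.Vanish.K911.Coker
import Groth.Agent.Vanish.K911.One

/-!
# The surjectivity theorem in characteristic zero from positive characteristic
-/

set_option autoImplicit false
universe u
open CategoryTheory CategoryTheory.Limits AlgebraicGeometry

namespace K911.Spread104

open Groth.Agent Groth.Agent.Fga.PicMon Groth.Agent.Pic13.H11.Cls K911.DivCls K911.Transfer K911.PullM
open K890.Spread K890.Model K890.Generic K890.Fibres K890.Polarized K890.Stage K890.NcdModel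

/-- The surjectivity theorem in positive characteristic. -/
def SurjP : Prop :=
  ∀ (p : ℕ) [Fact p.Prime]
    (k : Type u) [Field k] [IsAlgClosed k] [CharP k p]
    (X : Scheme.{u}) [X.Over (Spec (CommRingCat.of k))] [IsProper (X ↘ Spec (CommRingCat.of k))]
    [Smooth (X ↘ Spec (CommRingCat.of k))] [IrreducibleSpace X] (n : ℕ) (_ : topologicalKrullDim X = n) (_ : n ≤ p)
    (H : X.Modules) (_ : CohB1.IsAmple H)
    (Xl : Scheme.{u}) (g : Xl ⟶ Spec (CommRingCat.of (FrobAlg.W2 p k))) [Flat g] (i : X ⟶ Xl)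
    (_ : IsPullback i (X ↘ Spec (CommRingCat.of k)) g (Spec.map (CommRingCat.ofHom (FrobAlg.res p k))))
    {r : ℕ} (D : Fin r → X.IdealSheafData) (_ : LogNCD.IsNCD D (X ↘ Spec (CommRingCat.of k)))
    (Dl : Fin r → Xl.IdealSheafData) (_ : ∀ j, (Dl j).comap i = D j) (_ : ∀ j, Flat ((Dl j).subschemeι ≫ g))
    (L Linv : X.Modules) (_ : PicF.IsInvertible L) (_ : ClSub.IsInverseOf Linv L)
    (N : ℕ) (_ : 1 ≤ N) (_ : Nat.Coprime N p)
    (s : Finset (Fin r)) (α : Fin r → ℕ) (_ : ∀ j, j ∉ s → 0 < α j ∧ α j < N) (_ : ∀ j, j ∈ s → α j = 0)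
    (_ : ClSub.IsInverseOf (CohB1.tensorPow L N) (ClSub.idealMod (∏ j, D j ^ α j)))
    (μ : Fin r → ℕ) (_ : ∀ j, j ∈ s → μ j = 0) (_ : ∀ (j : Fin r) (c : ℕ), j ∉ s → c < μ j → ¬ p ∣ α j + c * N)
    (κ : ClSub.idealMod ((∏ j ∈ s, D j) * ∏ j, D j ^ μ j) ⟶ ClSub.idealMod (∏ j ∈ s, D j))
    (_ : κ ≫ ClSub.idealModι (∏ j ∈ s, D j) = ClSub.idealModι ((∏ j ∈ s, D j) * ∏ j, D j ^ μ j))
    (b : ℕ),
    Function.Surjective (Sheaf.H.map ((SheafOfModules.toSheaf X.ringCatSheaf).map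
      (KoszTw.tensorMap (𝟙 Linv) κ)) b)

section

variable {X Y : Scheme.{u}}

theorem comap_prod {ι : Type*} (s : Finset ι) (D : ι → X.IdealSheafData) (q : Y ⟶ X) :
    (∏ j ∈ s, D j).comap q = ∏ j ∈ s, (D j).comap q := by
  classical
  induction s using Finset.induction_on with
  | empty =>
    rw [Finset.prod_empty, Finset.prod_empty, ← pow_zero (0 : X.IdealSheafData), Divis.IdealComap.comap_pow,
      pow_zero]
  | insert a s has ih => rw [Finset.prod_insert has, Finset.prod_insert has, Divis.IdealComap.comap_mul, ih]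

theorem comap_prod_mul {r : ℕ} (s : Finset (Fin r)) (D : Fin r → X.IdealSheafData) (μ : Fin r → ℕ) (q : Y ⟶ X) :
    ((∏ j ∈ s, D j) * ∏ j, D j ^ μ j).comap q =
      (∏ j ∈ s, (D j).comap q) * ∏ j, ((D j).comap q) ^ μ j := by
  rw [Divis.IdealComap.comap_mul, comap_prod, comap_prod]
  simp only [Divis.IdealComap.comap_pow]

theorem isInvertible_inv {L M : X.Modules} (hL : PicF.IsInvertible L) (h : ClSub.IsInverseOf M L) :
    PicF.IsInvertible M := by
  obtain ⟨P, hP, hu⟩ := exists_invertible (unit hL)⁻¹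
  rw [← unit_inv hL h] at hu
  exact isInvertible_of_iso (Classical.choice ((mc_eq_iff _ _).1 hu)) hP

end

/-- Surjectivity in terms of the dimensions for a base change. -/
theorem surj_iff_classes {k : Type u} [Field k] {X X₀ : Scheme.{u}} [X.Over (Spec (CommRingCat.of k))]
    [IsProper (X ↘ Spec (CommRingCat.of k))] (q : X ⟶ X₀) {K₀ I₀ : X₀.IdealSheafData}
    (hK₀ : BlowUp.IsEffCartierIdeal K₀) (hI₀ : BlowUp.IsEffCartierIdeal I₀)
    {K I : X.IdealSheafData} (eK : K₀.comap q = K) (eI : I₀.comap q = I)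
    (hK : BlowUp.IsEffCartierIdeal K) (hI : BlowUp.IsEffCartierIdeal I)
    {κ₀ : ClSub.idealMod K₀ ⟶ ClSub.idealMod I₀} (hκ₀ : κ₀ ≫ ClSub.idealModι I₀ = ClSub.idealModι K₀)
    {l₀ : (MC X₀)ˣ} {Linv : X.Modules} (hLi : PicF.IsInvertible Linv)
    (hl : mc Linv = pullU q l₀) {κ : ClSub.idealMod K ⟶ ClSub.idealMod I}
    (hκ : κ ≫ ClSub.idealModι I = ClSub.idealModι K) :
    (∀ b, Function.Surjective (Sheaf.H.map ((SheafOfModules.toSheaf X.ringCatSheaf).map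
      (KoszTw.tensorMap (𝟙 Linv) κ)) b)) ↔
    (h k 0 (pullM q (l₀ • mc (ClSub.idealMod K₀))) = h k 0 (pullM q (l₀ • mc (ClSub.idealMod I₀))) ∧
      ∀ i, h k (i + 1) (pullM q (l₀ • mc (ClSub.idealMod K₀))) =
        h k i (pullM q (l₀ • mc (cokernel κ₀))) + h k (i + 1) (pullM q (l₀ • mc (ClSub.idealMod I₀)))) := by
  rw [Coker.surj_iff k hLi hκ hK hI]
  have e1 : ∀ i, Module.finrank k (Coh.HH X (CohB1.tensorMod Linv (ClSub.idealMod K)) i) =
      h k i (pullM q (l₀ • mc (ClSub.idealMod K₀))) := fun i => by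
    subst eK
    rw [← h_mc, mc_tensor, hl, pullM_smul, pullM_mc, smul_def, mc_eq (Classical.choice
      (Dix.IdealModCartier.pullback_idealMod q hK₀ hK))]
  have e2 : ∀ i, Module.finrank k (Coh.HH X (CohB1.tensorMod Linv (ClSub.idealMod I)) i) =
      h k i (pullM q (l₀ • mc (ClSub.idealMod I₀))) := fun i => by
    subst eI
    rw [← h_mc, mc_tensor, hl, pullM_smul, pullM_mc, smul_def, mc_eq (Classical.choice
      (Dix.IdealModCartier.pullback_idealMod q hI₀ hI))]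
  have e3 : ∀ i, Module.finrank k (Coh.HH X (CohB1.tensorMod Linv (cokernel κ)) i) =
      h k i (pullM q (l₀ • mc (cokernel κ₀))) := fun i => by
    rw [← h_mc, mc_tensor, hl, pullM_smul, pullM_mc, smul_def, mc_eq (Classical.choice
      (Coker.pull_coker q hκ₀ hK₀ hI₀ eK eI hK hI hκ))]
  unfold Surj.NumSurj
  simp only [e1, e2, e3]

/-- **The surjectivity theorem in characteristic zero.** -/
theorem s17104 (hS : SurjP.{u}) (k : Type u) [Field k] [IsAlgClosed k] [CharZero k]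
    (X : Scheme.{u}) [X.Over (Spec (CommRingCat.of k))] [IsProper (X ↘ Spec (CommRingCat.of k))]
    [Smooth (X ↘ Spec (CommRingCat.of k))] [IrreducibleSpace X] (n : ℕ) (hn : topologicalKrullDim X = n)
    (H : X.Modules) (hH : CohB1.IsAmple H)
    (L Linv : X.Modules) (hL : PicF.IsInvertible L) (hLinv : ClSub.IsInverseOf Linv L)
    (N : ℕ) (hN : 1 ≤ N) {r : ℕ} (D : Fin r → X.IdealSheafData) (hD : LogNCD.IsNCD D (X ↘ Spec (CommRingCat.of k)))
    (s : Finset (Fin r)) (α : Fin r → ℕ) (hα : ∀ j, j ∉ s → 0 < α j ∧ α j < N) (hαs : ∀ j, j ∈ s → α j = 0)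
    (hLN : ClSub.IsInverseOf (CohB1.tensorPow L N) (ClSub.idealMod (∏ j, D j ^ α j)))
    (μ : Fin r → ℕ) (hμ : ∀ j, j ∈ s → μ j = 0)
    (κ : ClSub.idealMod ((∏ j ∈ s, D j) * ∏ j, D j ^ μ j) ⟶ ClSub.idealMod (∏ j ∈ s, D j))
    (hκ : κ ≫ ClSub.idealModι (∏ j ∈ s, D j) = ClSub.idealModι ((∏ j ∈ s, D j) * ∏ j, D j ^ μ j))
    (b : ℕ) :
    Function.Surjective (Sheaf.H.map ((SheafOfModules.toSheaf X.ringCatSheaf).map
      (KoszTw.tensorMap (𝟙 Linv) κ)) b) := by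
  obtain ⟨S₀, hSfg, X₀, f₀, p, H₀, L₀, D₀, sq, _, _, hamp, hL₀, heL, hD₀, hncd⟩ :=
    exists_full_model (X ↘ Spec (CommRingCat.of k)) hH hL D hD
  obtain rfl : (fun j => (D₀ j).comap p) = D := funext hD₀
  have hX₀ : IsLocallyNoetherian X₀ := K890.Ncd.isLocallyNoetherian_of_fg (f₀ := f₀) hSfg
  have hE₀ : ∀ j, BlowUp.IsEffCartierIdeal (D₀ j) := K911.Ncd.isEff_of_isNCD hncd
  have hE := K911.Ncd.isEff_of_isNCD hD
  have hI₀ : BlowUp.IsEffCartierIdeal (∏ j ∈ s, D₀ j) := isEff_prod s D₀ hE₀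
  have hK₀ : BlowUp.IsEffCartierIdeal ((∏ j ∈ s, D₀ j) * ∏ j, D₀ j ^ μ j) :=
    Divis.EffCartier.isEff_mul hI₀ (isEff_prod_pow Finset.univ D₀ hE₀ μ)
  obtain ⟨κ₀, hκ₀⟩ := Coker.exists_incl (K := (∏ j ∈ s, D₀ j) * ∏ j, D₀ j ^ μ j) (I := ∏ j ∈ s, D₀ j) (fun U => by
    rw [Scheme.IdealSheafData.ideal_mul]
    exact Ideal.mul_le_left (I := (∏ j ∈ s, D₀ j).ideal U) (J := (∏ j, D₀ j ^ μ j).ideal U))
  have hcI : Coh.IsCoh (ClSub.idealMod (∏ j ∈ s, D₀ j)) :=
    Fga.HodgeSec.isCoh_of_isInvertible (Dix.IdealModCartier.isInvertible_idealMod hI₀)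
  have hcK : Coh.IsCoh (ClSub.idealMod ((∏ j ∈ s, D₀ j) * ∏ j, D₀ j ^ μ j)) :=
    Fga.HodgeSec.isCoh_of_isInvertible (Dix.IdealModCartier.isInvertible_idealMod hK₀)
  have hcQ : Coh.IsCoh (cokernel κ₀) := Sga67.CohBasic.isCoh_cokernel κ₀ hcK.1 hcI
  let l₀ : (MC X₀)ˣ := (unit hL₀)⁻¹
  let c : Fin 3 → MC X₀ := ![l₀ • mc (ClSub.idealMod ((∏ j ∈ s, D₀ j) * ∏ j, D₀ j ^ μ j)),
    l₀ • mc (ClSub.idealMod (∏ j ∈ s, D₀ j)), l₀ • mc (cokernel κ₀)]
  have hc : ∀ i, Co (c i) := by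
    intro i
    fin_cases i
    · exact Co.smul (show Co (mc _) from hcK) _
    · exact Co.smul (show Co (mc _) from hcI) _
    · exact Co.smul (show Co (mc _) from hcQ) _
  have hδ : ∀ j, pullU p (dcl (hE₀ j)) = dcl (hE j) := fun j => pullU_dcl p _ _
  have hl : pullU p (unit hL₀) = unit hL := pullU_unit p hL₀ hL heL
  have hρ : pullU p ((unit hL₀ : (MC X₀)ˣ) ^ N * ∏ j, dcl (hE₀ j) ^ α j) = 1 := by
    rw [map_mul, map_pow, hl, map_prod]
    simp only [map_pow, hδ]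
    apply Units.ext
    rw [Units.val_mul, Units.val_pow_eq_pow_val, unit_val, ← mc_tensorPow, ← mc_prod_pow Finset.univ hE,
      Units.val_one]
    exact isInverseOf_iff.1 hLN
  obtain ⟨ℓ, iℓ, F, _, _, _, X', _, q, Xl, g, i, Dl, φ, hlt, Hq, _, _, _, hn', _, hi, hDl, hncd', hflat, hh,
    hρ'⟩ := exists_good hn hSfg sq hncd c hc hρ (n + N + ∑ j, (α j + μ j * N))
  have hE' : ∀ j, BlowUp.IsEffCartierIdeal ((D₀ j).comap q) := K911.Ncd.isEff_of_isNCD hncd'
  have hδ' : ∀ j, pullU q (dcl (hE₀ j)) = dcl (hE' j) := fun j => pullU_dcl q _ _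
  have hamp' := isAmple_bc hamp _ Hq
  have hL' : PicF.IsInvertible ((Scheme.Modules.pullback q).obj L₀) := Fdesc.LocGen.isInvertible_pullback q hL₀
  obtain ⟨Linv', hLi', hmc'⟩ := exists_invertible (unit hL')⁻¹
  have hLinv' : ClSub.IsInverseOf Linv' ((Scheme.Modules.pullback q).obj L₀) := by
    rw [isInverseOf_iff, hmc', ← unit_val hL', Units.inv_mul]
  have hl' : pullU q (unit hL₀) = unit hL' := pullU_unit q hL₀ hL' ⟨Iso.refl _⟩
  have hNℓ : Nat.Coprime N ℓ :=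
    ((Nat.Prime.coprime_iff_not_dvd iℓ.out).2 fun h => by
      have := Nat.le_of_dvd hN h
      omega).symm
  have hLN' : ClSub.IsInverseOf (CohB1.tensorPow ((Scheme.Modules.pullback q).obj L₀) N)
      (ClSub.idealMod (∏ j, (D₀ j).comap q ^ α j)) := by
    rw [isInverseOf_iff, mc_tensorPow, mc_prod_pow Finset.univ hE', ← unit_val hL', ← Units.val_pow_eq_pow_val,
      ← Units.val_mul, ← Units.val_one]
    congr 1
    rw [map_mul, map_pow, map_prod, hl'] at hρ'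
    simp only [map_pow, hδ'] at hρ'
    exact hρ'
  have hI' : BlowUp.IsEffCartierIdeal (∏ j ∈ s, (D₀ j).comap q) := isEff_prod s _ hE'
  have hK' : BlowUp.IsEffCartierIdeal ((∏ j ∈ s, (D₀ j).comap q) * ∏ j, (D₀ j).comap q ^ μ j) :=
    Divis.EffCartier.isEff_mul hI' (isEff_prod_pow Finset.univ _ hE' μ)
  obtain ⟨κ', hκ'⟩ := Coker.exists_incl (K := (∏ j ∈ s, (D₀ j).comap q) * ∏ j, (D₀ j).comap q ^ μ j)
    (I := ∏ j ∈ s, (D₀ j).comap q) (fun U => by
      rw [Scheme.IdealSheafData.ideal_mul]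
      exact Ideal.mul_le_left (I := (∏ j ∈ s, (D₀ j).comap q).ideal U) (J := (∏ j, (D₀ j).comap q ^ μ j).ideal U))
  have key := hS ℓ F X' n hn' (by omega) _ hamp' Xl g i hi _ hncd' Dl hDl hflat _ Linv' hL' hLinv' N hN hNℓ s α hα
    hαs hLN' μ hμ (fun j c hj hc hd => by
      have h1 := Finset.single_le_sum (f := fun j => α j + μ j * N) (fun _ _ => Nat.zero_le _) (Finset.mem_univ j)
      have h2 := (hα j hj).1
      have h3 : c * N ≤ μ j * N := Nat.mul_le_mul_right N hc.le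
      have h4 := Nat.le_of_dvd (by omega) hd
      omega) κ' hκ'
  have key' := (surj_iff_classes (k := F) q hK₀ hI₀ (comap_prod_mul s D₀ μ q) (comap_prod s D₀ q) hK' hI' hκ₀
    (l₀ := l₀) hLi' (by rw [hmc', ← hl', ← map_inv]) hκ').1 key
  have hI : BlowUp.IsEffCartierIdeal (∏ j ∈ s, (D₀ j).comap p) := isEff_prod s _ hE
  have hK : BlowUp.IsEffCartierIdeal ((∏ j ∈ s, (D₀ j).comap p) * ∏ j, (D₀ j).comap p ^ μ j) :=
    Divis.EffCartier.isEff_mul hI (isEff_prod_pow Finset.univ _ hE μ)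
  refine (surj_iff_classes (k := k) p hK₀ hI₀ (comap_prod_mul s D₀ μ p) (comap_prod s D₀ p) hK hI hκ₀ (l₀ := l₀)
    (isInvertible_inv hL hLinv) (by rw [unit_inv hL hLinv, ← hl, ← map_inv]) hκ).2 ?_ b
  have h0 := fun b => hh 0 b
  have h1 := fun b => hh 1 b
  have h2 := fun b => hh 2 b
  simp only [c, Matrix.cons_val_zero, Matrix.cons_val_one, Matrix.cons_val_two, Matrix.head_cons,
    Matrix.tail_cons] at h0 h1 h2
  simpa only [h0, h1, h2] using key'

theorem s17103 (hS : SurjP.{u}) (k : Type u) [Field k] [IsAlgClosed k] [CharZero k]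
    (X : Scheme.{u}) [X.Over (Spec (CommRingCat.of k))] [IsProper (X ↘ Spec (CommRingCat.of k))]
    [Smooth (X ↘ Spec (CommRingCat.of k))] [IrreducibleSpace X] (n : ℕ) (hn : topologicalKrullDim X = n)
    (H : X.Modules) (hH : CohB1.IsAmple H)
    (L Linv : X.Modules) (hL : PicF.IsInvertible L) (hLinv : ClSub.IsInverseOf Linv L)
    (N : ℕ) (hN : 1 ≤ N) {r : ℕ} (D : Fin r → X.IdealSheafData) (hD : LogNCD.IsNCD D (X ↘ Spec (CommRingCat.of k)))
    (α : Fin r → ℕ) (hα : ∀ j, 0 < α j ∧ α j < N)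
    (hLN : ClSub.IsInverseOf (CohB1.tensorPow L N) (ClSub.idealMod (∏ j, D j ^ α j)))
    (μ : Fin r → ℕ) (b : ℕ) :
    Function.Surjective (Sheaf.H.map ((SheafOfModules.toSheaf X.ringCatSheaf).map
      (LogNCD.inclTwist Linv (∏ j, D j ^ μ j))) b) := by
  obtain ⟨κ, hκ⟩ := Coker.exists_incl (K := (∏ j ∈ (∅ : Finset (Fin r)), D j) * ∏ j, D j ^ μ j)
    (I := ∏ j ∈ (∅ : Finset (Fin r)), D j) (fun U => by
      rw [Scheme.IdealSheafData.ideal_mul]
      exact Ideal.mul_le_left (I := (∏ j ∈ (∅ : Finset (Fin r)), D j).ideal U) (J := (∏ j, D j ^ μ j).ideal U))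
  exact One.surjective_inclTwist Finset.prod_empty hκ (s17104 hS k X n hn H hH L Linv hL hLinv N hN D hD ∅ α
    (fun j _ => hα j) (fun j hj => absurd hj (Finset.notMem_empty j)) hLN μ
    (fun j hj => absurd hj (Finset.notMem_empty j)) κ hκ b)

end K911.Spread104
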