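import Groth.Agent.DelIll.K890.Fibre
import Groth.Agent.DelIll.K890.ModStage
import Groth.Agent.LogNCD.K922.LogExist
import Groth.Agent.OmegaSh.K583.ExistsUniv
import Groth.Agent.PerfA.CohSerre
import Groth.Agent.Vanish.K911.PullM
import Groth.Agent.Vanish.K911.Geo
import Groth.Agent.Vanish.K911.LogModBC
import Groth.Agent.Vanish.K911.PicCalc
import Groth.Agent.Vanish.K911.Akn

/-!
# From characteristic `p` to characteristic zero

* `CoreP`: the core inequality in characteristic `p`, `coreFor` its form for classes;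
* `exists_fibre`: a good fibre of a model, with the dimensions of the cohomology of finitely many twists preserved;
* `ineq_zero`: the inequality `S (L⁻¹(-B)) ≤ S (L⁻¹(-B)(∑ ν_j D_j))` in characteristic zero.
-/

set_option autoImplicit false
universe u
open CategoryTheory CategoryTheory.Limits AlgebraicGeometry

namespace K911.Transfer

open Groth.Agent Groth.Agent.Fga.PicMon Groth.Agent.Pic13.H11.Cls K911.DivCls K911.PullM K911.Akn
open K890.Spread K890.Model K890.Generic K890.Fibres K890.Polarized K890.Stage K890.NcdModel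

/-- The core inequality in characteristic `p`, for schemes with a lifting to the Witt vectors of length two. -/
def CoreP : Prop :=
  ∀ (p : ℕ) [Fact p.Prime] (k : Type u) [Field k] [CharP k p] [PerfectRing k p]
    (X : Scheme.{u}) [X.Over (Spec (CommRingCat.of k))] [IsProper (X ↘ Spec (CommRingCat.of k))]
    [Smooth (X ↘ Spec (CommRingCat.of k))] [IrreducibleSpace X]
    (H : X.Modules) (_ : CohB1.IsAmple H)
    (Xl : Scheme.{u}) (g : Xl ⟶ Spec (CommRingCat.of (FrobAlg.W2 p k))) [Flat g] (i : X ⟶ Xl)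
    (_ : IsPullback i (X ↘ Spec (CommRingCat.of k)) g (Spec.map (CommRingCat.ofHom (FrobAlg.res p k))))
    {r : ℕ} (D : Fin r → X.IdealSheafData) (_ : LogNCD.IsNCD D (X ↘ Spec (CommRingCat.of k)))
    (Dl : Fin r → Xl.IdealSheafData) (_ : ∀ j, (Dl j).comap i = D j) (_ : ∀ j, Flat ((Dl j).subschemeι ≫ g))
    {Ω' : X.Modules} (d : OmegaSh.Der (X ↘ Spec (CommRingCat.of k)) Ω') (_ : OmegaSh.IsUniversal d)
    (Λ : LogNCD.LogMod d D) (La : ℕ → X.Modules) (_ : ∀ a, ExtPow.IsExtPow a Λ.L (La a))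
    (M M' : X.Modules) (_ : PicF.IsInvertible M) (_ : PicF.IsInvertible M')
    (e : Fin r → ℕ) (_ : ∀ j, e j ≤ p - 1)
    (_ : Nonempty (CohB1.tensorMod M' (ClSub.idealMod (∏ j, D j ^ e j)) ≅ CohB1.tensorPow M p))
    (m : ℕ) (_ : m < p),
    ∑ a ∈ Finset.range (m + 1), Module.finrank k (Coh.HH X (CohB1.tensorMod (La a) M) (m - a)) ≤
      ∑ a ∈ Finset.range (m + 1), Module.finrank k (Coh.HH X (CohB1.tensorMod (La a) M') (m - a))

theorem isInvertible_of_iso {X : Scheme.{u}} {L M : X.Modules} (e : L ≅ M) (hL : PicF.IsInvertible L) :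
    PicF.IsInvertible M := fun x => by
  obtain ⟨U, hx, ⟨i⟩⟩ := hL x
  exact ⟨U, hx, ⟨(Scheme.Modules.restrictFunctor U.ι).mapIso e.symm ≪≫ i⟩⟩

theorem coreFor (hC : CoreP.{u}) (p : ℕ) [Fact p.Prime] (k : Type u) [Field k] [CharP k p] [PerfectRing k p]
    (X : Scheme.{u}) [X.Over (Spec (CommRingCat.of k))] [IsProper (X ↘ Spec (CommRingCat.of k))]
    [Smooth (X ↘ Spec (CommRingCat.of k))] [IrreducibleSpace X]
    (H : X.Modules) (hH : CohB1.IsAmple H)
    (Xl : Scheme.{u}) (g : Xl ⟶ Spec (CommRingCat.of (FrobAlg.W2 p k))) [Flat g] (i : X ⟶ Xl)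
    (hi : IsPullback i (X ↘ Spec (CommRingCat.of k)) g (Spec.map (CommRingCat.ofHom (FrobAlg.res p k))))
    {r : ℕ} (D : Fin r → X.IdealSheafData) (hD : LogNCD.IsNCD D (X ↘ Spec (CommRingCat.of k)))
    (Dl : Fin r → Xl.IdealSheafData) (hDl : ∀ j, (Dl j).comap i = D j) (hDlf : ∀ j, Flat ((Dl j).subschemeι ≫ g))
    {Ω' : X.Modules} (d : OmegaSh.Der (X ↘ Spec (CommRingCat.of k)) Ω') (hd : OmegaSh.IsUniversal d)
    (Λ : LogNCD.LogMod d D) (La : ℕ → X.Modules) (hLa : ∀ a, ExtPow.IsExtPow a Λ.L (La a))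
    (hE : ∀ j, BlowUp.IsEffCartierIdeal (D j)) :
    CoreFor p k La (fun j => dcl (hE j)) := by
  intro m hm c c' e he h
  obtain ⟨M, hM, hc⟩ := exists_invertible c
  obtain ⟨M', hM', hc'⟩ := exists_invertible c'
  rw [S_eq k La m M hc, S_eq k La m M' hc']
  refine hC p k X H hH Xl g i hi D hD Dl hDl hDlf d hd Λ La hLa M M' hM hM' e he ?_ m hm
  rw [← mc_eq_iff, mc_tensor, mc_tensorPow, hc, hc', mc_prod_pow Finset.univ hE]
  exact congrArg Units.val h

section Mod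

variable {k : Type u} [Field k] {S : Subalgebra ℤ k} {X₀ X : Scheme.{u}} {f₀ : X₀ ⟶ Spec (CommRingCat.of S)}
  {p : X ⟶ X₀}

/-- The dimension of cohomology is constant. -/
theorem ev_h [X.Over (Spec (CommRingCat.of k))] [IsProper f₀] [LocallyOfFinitePresentation f₀]
    (H : IsPullback p (X ↘ Spec (CommRingCat.of k)) f₀ (sv S)) (hS : S.FG) {c : MC X₀} (hc : Co c) :
    Ev S (OnField fun κ _ φ => ∀ (X' : Scheme.{u}) [X'.Over (Spec (CommRingCat.of κ))] (q : X' ⟶ X₀),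
      IsPullback q (X' ↘ Spec (CommRingCat.of κ)) f₀ (sp φ) → ∀ b : ℕ, h κ b (pullM q c) = h k b (pullM p c)) := by
  induction c using MC.ind with | h F => ?_
  exact K890.Surj.ev_finrank_coh H hS hc

/-- A relation between classes of invertible modules spreads out. -/
theorem ev_one {f : X ⟶ Spec (CommRingCat.of k)} [IsProper f₀] [LocallyOfFinitePresentation f₀]
    (H : IsPullback p f f₀ (sv S)) (hS : S.FG) {ρ : (MC X₀)ˣ} (hρ : pullU p ρ = 1) :
    Ev S (BC f₀ fun _ _ _ q _ => pullU q ρ = 1) := by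
  obtain ⟨R, hR, hRρ⟩ := exists_invertible ρ
  obtain ⟨R₁, hR₁, hR1⟩ := exists_invertible (1 : (MC X₀)ˣ)
  have e1 : ∀ {Y : Scheme.{u}} (q : Y ⟶ X₀), pullU q ρ = 1 ↔ Nonempty ((Scheme.Modules.pullback q).obj R ≅
      (Scheme.Modules.pullback q).obj R₁) := by
    intro Y q
    rw [← mc_eq_iff, ← pullM_mc, ← pullM_mc, hR1, Units.val_one, map_one, hRρ, ← pullU_val]
    exact Units.val_eq_one.symm
  refine (ev_iso H hS (Desc.FinLocFreeSections.isFP_of_isFinLocFree (isFinLocFree_of_isInvertible hR))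
    (Desc.FinLocFreeSections.isFP_of_isFinLocFree (isFinLocFree_of_isInvertible hR₁)) ((e1 p).1 hρ)).mono ?_
  intro T _ φ h1 X' q g hq
  exact (e1 q).2 (h1 X' q g hq)

end Mod

open Groth.Agent.Desc.FinLocFreeSections in
/-- A model with an ample module, an invertible module and a normal crossing divisor. -/
theorem exists_full_model {k : Type u} [Field k] {X : Scheme.{u}} (f : X ⟶ Spec (CommRingCat.of k)) [IsProper f]
    [Smooth f] {H : X.Modules} (hH : CohB1.IsAmple H) {L : X.Modules} (hL : PicF.IsInvertible L) {r : ℕ}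
    (D : Fin r → X.IdealSheafData) (hD : LogNCD.IsNCD D f) :
    ∃ (S : Subalgebra ℤ k) (_ : S.FG) (X₀ : Scheme.{u}) (f₀ : X₀ ⟶ Spec (CommRingCat.of S)) (p : X ⟶ X₀)
      (H₀ L₀ : X₀.Modules) (D₀ : Fin r → X₀.IdealSheafData), IsPullback p f f₀ (sv S) ∧ IsProper f₀ ∧ Smooth f₀ ∧
      CohB1.IsAmple H₀ ∧ PicF.IsInvertible L₀ ∧ Nonempty ((Scheme.Modules.pullback p).obj L₀ ≅ L) ∧
      (∀ i, (D₀ i).comap p = D i) ∧ LogNCD.IsNCD D₀ f₀ := by
  obtain ⟨S, hS, X₀, f₀, p, H₀, D₀, sq, hprop, hsm, hamp, ⟨eH⟩, hD₀, hncd⟩ :=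
    exists_smooth_ample_ncd_model f hH D hD
  obtain ⟨S₁, h₁, hS₁, L₁, hfp, ⟨e₁⟩⟩ := K890.ModStage.exists_module_stage sq hS L
    (isFP_of_isFinLocFree (isFinLocFree_of_isInvertible hL))
  have sq₁ := isPullback_up sq h₁
  have hinv : Ev S₁ (BC (st f₀ h₁) (fun _ _ _ q _ => PicF.IsInvertible ((Scheme.Modules.pullback q).obj L₁))) :=
    ev_isInvertible sq₁ hS₁ hfp (isInvertible_of_iso e₁.symm hL)
  obtain ⟨S₂, h₂, hS₂, h3⟩ := exists_stage_of_ev hinv
  have h4 := h3 S₂ le_rfl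
  have sq₀ := isPullback_pr f₀ h₁
  have sq₂ := isPullback_pr (st f₀ h₁) (h₂.trans le_rfl)
  refine ⟨S₂, hS₂, St (st f₀ h₁) (h₂.trans le_rfl), st (st f₀ h₁) (h₂.trans le_rfl), up sq₁ (h₂.trans le_rfl),
    (Scheme.Modules.pullback (pr (st f₀ h₁) (h₂.trans le_rfl))).obj ((Scheme.Modules.pullback (pr f₀ h₁)).obj H₀),
    (Scheme.Modules.pullback (pr (st f₀ h₁) (h₂.trans le_rfl))).obj L₁,
    fun j => ((D₀ j).comap (pr f₀ h₁)).comap (pr (st f₀ h₁) (h₂.trans le_rfl)), isPullback_up sq₁ _,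
    inferInstance, inferInstance, isAmple_bc (isAmple_bc hamp _ sq₀) _ sq₂, h4, ⟨?_⟩, fun j => ?_, ?_⟩
  · exact (Scheme.Modules.pullbackComp _ (pr (st f₀ h₁) (h₂.trans le_rfl))).app L₁ ≪≫
      (Scheme.Modules.pullbackCongr (up_pr sq₁ (h₂.trans le_rfl))).app L₁ ≪≫ e₁
  · rw [← Scheme.IdealSheafData.comap_comp, up_pr, ← Scheme.IdealSheafData.comap_comp, up_pr, hD₀]
  · exact K911.Ncd.isNCD_of_isPullback sq₂ (K911.Ncd.isNCD_of_isPullback sq₀ hncd)

/-- **A good fibre** of a model. -/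
theorem exists_good {k : Type u} [Field k] [IsSepClosed k] [CharZero k] {X : Scheme.{u}} [X.Over (Spec (CommRingCat.of k))]
    [Smooth (X ↘ Spec (CommRingCat.of k))] [IrreducibleSpace X]
    {n : ℕ} (hn : topologicalKrullDim X = n) {S : Subalgebra ℤ k} (hS : S.FG) {X₀ : Scheme.{u}}
    {f₀ : X₀ ⟶ Spec (CommRingCat.of S)} {p : X ⟶ X₀} (sq : IsPullback p (X ↘ Spec (CommRingCat.of k)) f₀ (sv S))
    [IsProper f₀] [Smooth f₀] {r : ℕ} {D₀ : Fin r → X₀.IdealSheafData} (hD₀ : LogNCD.IsNCD D₀ f₀)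
    {ι : Type} [Finite ι] (c : ι → MC X₀) (hc : ∀ i, Co (c i)) {ρ : (MC X₀)ˣ} (hρ : pullU p ρ = 1) (N : ℕ) :
    ∃ (ℓ : ℕ) (_ : Fact ℓ.Prime) (κ : Type u) (_ : Field κ) (_ : IsAlgClosed κ) (_ : CharP κ ℓ)
      (X' : Scheme.{u}) (_ : X'.Over (Spec (CommRingCat.of κ))) (q : X' ⟶ X₀)
      (Xl : Scheme.{u}) (g : Xl ⟶ Spec (CommRingCat.of (FrobAlg.W2 ℓ κ))) (i : X' ⟶ Xl)
      (Dl : Fin r → Xl.IdealSheafData) (φ : S →+* κ),
      N < ℓ ∧ IsPullback q (X' ↘ Spec (CommRingCat.of κ)) f₀ (sp φ) ∧ IsProper (X' ↘ Spec (CommRingCat.of κ)) ∧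
      Smooth (X' ↘ Spec (CommRingCat.of κ)) ∧ IrreducibleSpace X' ∧ topologicalKrullDim X' = n ∧ Flat g ∧
      IsPullback i (X' ↘ Spec (CommRingCat.of κ)) g (Spec.map (CommRingCat.ofHom (FrobAlg.res ℓ κ))) ∧
      (∀ j, (Dl j).comap i = (D₀ j).comap q) ∧
      LogNCD.IsNCD (fun j => (D₀ j).comap q) (X' ↘ Spec (CommRingCat.of κ)) ∧
      (∀ j, Flat ((Dl j).subschemeι ≫ g)) ∧ (∀ i b, h κ b (pullM q (c i)) = h k b (pullM p (c i))) ∧
      pullU q ρ = 1 := by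
  have hconn : ConnectedSpace X := inferInstance
  have hgc : GeometricallyConnected (X ↘ Spec (CommRingCat.of k)) := geometricallyConnected_of_isSepClosed
  have h1 := Ev.all_finite hS fun i => ev_h sq hS (hc i)
  have h2 := ev_irreducible sq hS
  have h3 := ev_dim sq hS n hn
  have h4 := ev_one sq hS hρ
  obtain ⟨ℓ, hℓ, κ, _, _, hchar, φ, X', _, q, Xl, g, i, ql, hN, ⟨⟨⟨h1, h2⟩, h3⟩, h4⟩, Hq, hsm, hi, -, hDl, hncd, -,
    hflat⟩ := K890.Fibre.exists_fibre hD₀ (((h1.and h2).and h3).and h4) N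
  exact ⟨ℓ, hℓ, κ, inferInstance, inferInstance, hchar, X', inferInstance, q, Xl, g, i, fun j => (D₀ j).comap ql, φ,
    hN, Hq, MorphismProperty.of_isPullback Hq inferInstance, MorphismProperty.of_isPullback Hq inferInstance,
    h2.apply X' q _ Hq, h3.apply X' q _ Hq, inferInstance, hi, hDl, hncd, hflat,
    fun i b => (h1 i).apply X' q Hq b, h4 X' q _ Hq⟩

end K911.Transfer
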